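import Cfsg.Agent.Lib.Linear.SymplecticMax

/-! Maximality in `Sp_2m`, `m ≥ 3`: Pair. -/

set_option autoImplicit false
open Cfsg

namespace Cfsg.Lib.Linear.SpGeo.Pair

open scoped Matrix
open Cfsg.Lib.Linear.Symp Module

variable {F V : Type*} [Field F] [AddCommGroup V] [Module F V] [FiniteDimensional F V]
  {B : LinearMap.BilinForm F V}

/-- A short root element. -/
def sr (hA : B.IsAlt) (a b : V) : V ≃ₗ[F] V := tv hA (a + b) 1 * tv hA a (-1) * tv hA b (-1)

theorem sr_apply (hA : B.IsAlt) {a b : V} (h : B a b = 0) (x : V) :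
    sr hA a b x = x + B x b • a + B x a • b := by
  have h' : B b a = 0 := by rw [← LinearMap.IsAlt.neg hA, h, neg_zero]
  simp [sr, LinearEquiv.mul_apply, hA.self_eq_zero, h, h']
  module

theorem sr_conj (hA : B.IsAlt) {g : V ≃ₗ[F] V} (hg : g ∈ iso B) (a b : V) :
    g * sr hA a b * g⁻¹ = sr hA (g a) (g b) := by
  rw [sr, sr, show g * (tv hA (a + b) 1 * tv hA a (-1) * tv hA b (-1)) * g⁻¹ =
    (g * tv hA (a + b) 1 * g⁻¹) * (g * tv hA a (-1) * g⁻¹) * (g * tv hA b (-1) * g⁻¹) by group,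
    tv_conj hA hg, tv_conj hA hg, tv_conj hA hg, map_add]

theorem sr_mem_iso (hA : B.IsAlt) (a b : V) : sr hA a b ∈ iso B :=
  Subgroup.mul_mem _ (Subgroup.mul_mem _ (tv_mem_iso hA _ _) (tv_mem_iso hA _ _)) (tv_mem_iso hA _ _)

theorem sr_comm (hA : B.IsAlt) {a b : V} (h : B a b = 0) : sr hA a b = sr hA b a := by
  have h' : B b a = 0 := by rw [← LinearMap.IsAlt.neg hA, h, neg_zero]
  refine LinearEquiv.ext fun x => ?_
  rw [sr_apply hA h, sr_apply hA h', add_right_comm]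

/-- Two short elements with a common centre and non-orthogonal partners give a long one. -/
theorem long_of_short (hA : B.IsAlt) {L : Subgroup (V ≃ₗ[F] V)} {a b b' : V} (h : B a b = 0)
    (h' : B b' a = 0) (h1 : sr hA a b ∈ L) (h2 : sr hA b' a ∈ L) :
    tv hA a (2 * B b' b) ∈ L := by
  have e : sr hA a b * sr hA b' a * (sr hA a b)⁻¹ = sr hA b' a * tv hA a (2 * B b' b) := by
    have hab : B a b' = 0 := by rw [← LinearMap.IsAlt.neg hA, h', neg_zero]
    have hga : sr hA a b a = a := by rw [sr_apply hA h, h, hA.self_eq_zero]; simp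
    have hgb : sr hA a b b' = b' + B b' b • a := by rw [sr_apply hA h, h']; simp
    rw [sr_conj hA (sr_mem_iso hA a b), hga, hgb]
    refine LinearEquiv.ext fun x => ?_
    rw [LinearEquiv.mul_apply, sr_apply hA (by simp [h', hA.self_eq_zero]), sr_apply hA h', tv_apply]
    simp [hA.self_eq_zero, hab]
    module
  have := L.mul_mem (L.inv_mem h2) (L.mul_mem (L.mul_mem h1 h2) (L.inv_mem h1))
  rwa [e, inv_mul_cancel_left] at this

variable {W₁ W₂ : Submodule F V}

/-- The pairing of two complementary singular subspaces is nondegenerate. -/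
theorem pairing (hB : B.Nondegenerate) (hA : B.IsAlt) (hc : IsCompl W₁ W₂)
    (h2 : ∀ x ∈ W₂, ∀ y ∈ W₂, B x y = 0) {y : V} (hy : y ∈ W₂) (h : ∀ a ∈ W₁, B a y = 0) :
    y = 0 := by
  refine hB.2 y fun v => ?_
  obtain ⟨a, ha, b, hb, rfl⟩ := Submodule.mem_sup.mp (hc.sup_eq_top ▸ Submodule.mem_top : v ∈ W₁ ⊔ W₂)
  rw [map_add, LinearMap.add_apply, h a ha, h2 b hb y hy, add_zero]

theorem exists_sep (hB : B.Nondegenerate) (hA : B.IsAlt) (hc : IsCompl W₁ W₂)
    (h2 : ∀ x ∈ W₂, ∀ y ∈ W₂, B x y = 0) {y u : V} (hy : y ∈ W₂) (hu : u ∈ W₂)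
    (hne : ∀ t : F, u ≠ t • y) : ∃ a ∈ W₁, B a y = 0 ∧ B a u ≠ 0 := by
  by_contra hno
  push Not at hno
  by_cases hy' : ∀ a ∈ W₁, B a y = 0
  · have hu0 := pairing hB hA hc h2 hu fun a ha => hno a ha (hy' a ha)
    exact hne 0 (by rw [hu0, zero_smul])
  push Not at hy'
  obtain ⟨a₀, ha₀, hay⟩ := hy'
  refine hne (B a₀ u / B a₀ y) ?_
  rw [← sub_eq_zero]
  refine pairing hB hA hc h2 (sub_mem hu (W₂.smul_mem _ hy)) fun a ha => ?_
  have h := hno (a - (B a y / B a₀ y) • a₀) (sub_mem ha (W₁.smul_mem _ ha₀))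
    (by simp [div_mul_cancel₀ _ hay])
  simp only [map_sub, map_smul, LinearMap.sub_apply, LinearMap.smul_apply, smul_eq_mul] at h ⊢
  field_simp at h ⊢
  linear_combination h

/-- Some vector avoids two lines. -/
theorem avoid_two {S : Submodule F V} (hS : 2 ≤ finrank F S) (u v : V) :
    ∃ y ∈ S, y ∉ Submodule.span F {u} ∧ y ∉ Submodule.span F {v} := by
  have hex : ∀ w : V, ∃ y ∈ S, y ∉ Submodule.span F {w} := fun w =>
    SetLike.not_le_iff_exists.mp fun hle => by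
      have h1 := Submodule.finrank_mono hle
      have h2 : finrank F (Submodule.span F ({w} : Set V)) ≤ 1 := by
        simpa using finrank_span_le_card (R := F) ({w} : Set V)
      omega
  obtain ⟨y₁, h1, h1'⟩ := hex u
  obtain ⟨y₂, h2, h2'⟩ := hex v
  by_cases e1 : y₁ ∈ Submodule.span F {v}
  · by_cases e2 : y₂ ∈ Submodule.span F {u}
    · exact ⟨y₁ + y₂, add_mem h1 h2, fun h => h1' (by simpa using sub_mem h e2),
        fun h => h2' (by simpa using sub_mem h e1)⟩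
    · exact ⟨y₂, h2, e2, h2'⟩
  · exact ⟨y₁, h1, h1', e1⟩

/-- The computation, given a suitable vector of `W₂`. -/
theorem long_core (hB : B.Nondegenerate) (hA : B.IsAlt) (hc : IsCompl W₁ W₂)
    (h1 : ∀ x ∈ W₁, ∀ y ∈ W₁, B x y = 0) (h2 : ∀ x ∈ W₂, ∀ y ∈ W₂, B x y = 0)
    (h20 : (2 : F) ≠ 0) {L : Subgroup (V ≃ₗ[F] V)}
    (hsr : ∀ a ∈ W₁, ∀ b ∈ W₂, B a b = 0 → sr hA a b ∈ L) {u v : V} (huv : sr hA u v ∈ L)
    (h : B u v = 0) {u₁ u₂ v₁ v₂ : V} (hu₁ : u₁ ∈ W₁) (hu₂ : u₂ ∈ W₂) (hv₁ : v₁ ∈ W₁)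
    (hv₂ : v₂ ∈ W₂) (hu : u₁ + u₂ = u) (hv : v₁ + v₂ = v) {y : V} (hyW : y ∈ W₂) (hy0 : y ≠ 0)
    (hyu : B y u = 0) (hyv : B y v = 0) (hnu : ∀ t : F, u₂ ≠ t • y) (hnv : ∀ t : F, v₂ ≠ t • y) :
    ∃ y ∈ W₂, y ≠ 0 ∧ ∀ c, tv hA y c ∈ L := by
  obtain ⟨a₁, a1W, a1y, a1u⟩ := exists_sep hB hA hc h2 hyW hu₂ hnu
  obtain ⟨a₂, a2W, a2y, a2v⟩ := exists_sep hB hA hc h2 hyW hv₂ hnv
  obtain ⟨a, haW, hay, hau, hav⟩ : ∃ a ∈ W₁, B a y = 0 ∧ B a u₂ ≠ 0 ∧ B a v₂ ≠ 0 := by
    by_cases e1 : B a₁ v₂ = 0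
    · by_cases e2 : B a₂ u₂ = 0
      · exact ⟨a₁ + a₂, add_mem a1W a2W, by simp [a1y, a2y], by simp [e2, a1u], by simp [e1, a2v]⟩
      · exact ⟨a₂, a2W, a2y, e2, a2v⟩
    · exact ⟨a₁, a1W, a1y, a1u, e1⟩
  have hau' : B a u = B a u₂ := by rw [← hu, map_add, h1 a haW u₁ hu₁, zero_add]
  have hav' : B a v = B a v₂ := by rw [← hv, map_add, h1 a haW v₁ hv₁, zero_add]
  -- move `a` by the given short element
  have hg := L.mul_mem (L.mul_mem huv (hsr a haW y hyW hay)) (L.inv_mem huv)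
  rw [sr_conj hA (sr_mem_iso hA u v), sr_apply hA h y, hyu, hyv, zero_smul, zero_smul, add_zero,
    add_zero] at hg
  set a' := sr hA u v a with ha'
  have ha'y : B a' y = 0 := by
    rw [ha', sr_apply hA h]
    simp [hay, ← LinearMap.IsAlt.neg hA y u, ← LinearMap.IsAlt.neg hA y v, hyu, hyv]
  refine ⟨y, hyW, hy0, fun c => ?_⟩
  -- the partner is a multiple of `a`
  have hγ : B a a' ≠ 0 := by
    rw [ha', sr_apply hA h]
    simp only [map_add, map_smul, smul_eq_mul, hA.self_eq_zero, zero_add, hau', hav']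
    rw [mul_comm, ← two_mul]
    exact mul_ne_zero h20 (mul_ne_zero hau hav)
  let s := c / (2 * B a a')
  have hs : B (s • a) y = 0 := by simp [hay]
  have hy' : sr hA y a' ∈ L := by rwa [sr_comm hA ha'y] at hg
  have := long_of_short hA (by rw [← LinearMap.IsAlt.neg hA, ha'y, neg_zero]) hs hy'
    (hsr _ (W₁.smul_mem s haW) y hyW hs)
  rwa [map_smul, LinearMap.smul_apply, smul_eq_mul, show 2 * (s * B a a') = c by
    simp only [s]; field_simp] at this

/-- The main computation: a short element with both centres having components in `W₂`. -/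
theorem long_in (hB : B.Nondegenerate) (hA : B.IsAlt) (hc : IsCompl W₁ W₂)
    (h1 : ∀ x ∈ W₁, ∀ y ∈ W₁, B x y = 0) (h2 : ∀ x ∈ W₂, ∀ y ∈ W₂, B x y = 0)
    (hdim : 3 ≤ finrank F W₂) (h20 : (2 : F) ≠ 0) {L : Subgroup (V ≃ₗ[F] V)} (hL : L ≤ iso B)
    (hsr : ∀ a ∈ W₁, ∀ b ∈ W₂, B a b = 0 → sr hA a b ∈ L) {u v : V} (huv : sr hA u v ∈ L)
    (h : B u v = 0) {u₁ u₂ v₁ v₂ : V} (hu₁ : u₁ ∈ W₁) (hu₂ : u₂ ∈ W₂) (hv₁ : v₁ ∈ W₁)
    (hv₂ : v₂ ∈ W₂) (hu : u₁ + u₂ = u) (hv : v₁ + v₂ = v) (hu0 : u₂ ≠ 0) (hv0 : v₂ ≠ 0) :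
    ∃ y ∈ W₂, y ≠ 0 ∧ ∀ c, tv hA y c ∈ L := by
  have hne : ∀ {w y : V}, w ≠ 0 → y ∉ Submodule.span F {w} → ∀ t : F, w ≠ t • y := by
    intro w y hw hy t e
    rcases eq_or_ne t 0 with rfl | ht
    · exact hw (by rw [e, zero_smul])
    · refine hy (Submodule.mem_span_singleton.mpr ⟨t⁻¹, ?_⟩)
      rw [e, smul_smul, inv_mul_cancel₀ ht, one_smul]
  -- the case of non-orthogonal components
  have good : ∀ {u v : V}, sr hA u v ∈ L → B u v = 0 → ∀ {u₁ u₂ v₁ v₂ : V}, u₁ ∈ W₁ → u₂ ∈ W₂ →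
      v₁ ∈ W₁ → v₂ ∈ W₂ → u₁ + u₂ = u → v₁ + v₂ = v → (B u₂ u ≠ 0 ∨ B u₂ v ≠ 0) →
      (B v₂ u ≠ 0 ∨ B v₂ v ≠ 0) → ∃ y ∈ W₂, y ≠ 0 ∧ ∀ c, tv hA y c ∈ L := by
    intro u v huv h u₁ u₂ v₁ v₂ hu₁ hu₂ hv₁ hv₂ hu hv gu gv
    have h3 := LinearMap.finrank_range_add_finrank_ker (((B.flip u).prod (B.flip v)).comp W₂.subtype)
    have h4 := Submodule.finrank_le (LinearMap.range (((B.flip u).prod (B.flip v)).comp W₂.subtype))
    rw [Module.finrank_prod, Module.finrank_self] at h4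
    obtain ⟨y, hy, hy0⟩ := Submodule.exists_mem_ne_zero_of_ne_bot
      (fun he : LinearMap.ker (((B.flip u).prod (B.flip v)).comp W₂.subtype) = ⊥ => by
        rw [he, finrank_bot] at h3; omega)
    have hyu : B (y : V) u = 0 := congrArg Prod.fst (LinearMap.mem_ker.mp hy)
    have hyv : B (y : V) v = 0 := congrArg Prod.snd (LinearMap.mem_ker.mp hy)
    refine long_core hB hA hc h1 h2 h20 hsr huv h hu₁ hu₂ hv₁ hv₂ hu hv y.2
      (fun e => hy0 (Subtype.ext e)) hyu hyv (fun t e => ?_) fun t e => ?_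
    · rcases gu with g | g <;> exact g (by simp [e, hyu, hyv])
    · rcases gv with g | g <;> exact g (by simp [e, hyu, hyv])
  have bad : ∀ {u v : V}, sr hA u v ∈ L → B u v = 0 → ∀ {u₁ u₂ v₁ v₂ : V}, u₁ ∈ W₁ → u₂ ∈ W₂ →
      v₁ ∈ W₁ → v₂ ∈ W₂ → u₁ + u₂ = u → v₁ + v₂ = v → u₂ ≠ 0 → v₂ ≠ 0 → B u₂ u = 0 → B u₂ v = 0 →
      ∃ y ∈ W₂, y ≠ 0 ∧ ∀ c, tv hA y c ∈ L := by
    intro u v huv h u₁ u₂ v₁ v₂ hu₁ hu₂ hv₁ hv₂ hu hv hu0 hv0 q1 q2
    by_cases hdeg : u₁ = 0 ∨ v₁ = 0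
    · -- one functional suffices
      obtain ⟨w, hw⟩ : ∃ w, ∀ y ∈ W₂, B y w = 0 → B y u = 0 ∧ B y v = 0 := by
        rcases hdeg with h0 | h0
        · exact ⟨v, fun y hy e => ⟨by rw [← hu, h0, zero_add, h2 y hy u₂ hu₂], e⟩⟩
        · exact ⟨u, fun y hy e => ⟨e, by rw [← hv, h0, zero_add, h2 y hy v₂ hv₂]⟩⟩
      have h3 := LinearMap.finrank_range_add_finrank_ker ((B.flip w).comp W₂.subtype)
      have h4 := Submodule.finrank_le (LinearMap.range ((B.flip w).comp W₂.subtype))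
      rw [Module.finrank_self] at h4
      obtain ⟨y, hy, yu, yv⟩ := avoid_two
        (S := (LinearMap.ker ((B.flip w).comp W₂.subtype)).map W₂.subtype)
        (by rw [Submodule.finrank_map_subtype_eq]; omega) u₂ v₂
      obtain ⟨⟨y', hy'W⟩, hy', rfl⟩ := hy
      obtain ⟨e1, e2⟩ := hw y' hy'W (LinearMap.mem_ker.mp hy')
      exact long_core hB hA hc h1 h2 h20 hsr huv h hu₁ hu₂ hv₁ hv₂ hu hv hy'W
        (fun e => yu <| by
          rw [show (⟨y', hy'W⟩ : W₂) = 0 from Subtype.ext e, map_zero]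
          exact Submodule.zero_mem _) e1 e2
        (hne hu0 yu) (hne hv0 yv)
    push Not at hdeg
    have sw : ∀ x y : V, B y x = -B x y := fun x y => (LinearMap.IsAlt.neg hA x y).symm
    have q3 : B v₂ u = 0 := by
      have e : B u₁ v₂ + B u₂ v = 0 := by
        have := h
        rw [← hu, map_add, LinearMap.add_apply] at this
        nth_rw 1 [← hv] at this
        rwa [map_add, h1 u₁ hu₁ v₁ hv₁, zero_add] at this
      rw [q2, add_zero] at e
      rw [← hu, map_add, h2 v₂ hv₂ u₂ hu₂, add_zero, sw u₁ v₂, e, neg_zero]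
    obtain ⟨y, hyW, hyu, hyv⟩ : ∃ y ∈ W₂, B y u₁ ≠ 0 ∧ B y v₁ ≠ 0 := by
      have hex : ∀ w ∈ W₁, w ≠ 0 → ∃ y ∈ W₂, B y w ≠ 0 := fun w hw hw0 => by
        by_contra hno
        push Not at hno
        exact hw0 (pairing hB hA hc.symm h1 hw hno)
      obtain ⟨y₁, m1, n1⟩ := hex u₁ hu₁ hdeg.1
      obtain ⟨y₂, m2, n2⟩ := hex v₁ hv₁ hdeg.2
      by_cases e1 : B y₁ v₁ = 0
      · by_cases e2 : B y₂ u₁ = 0
        · exact ⟨y₁ + y₂, add_mem m1 m2, by simp [e2, n1], by simp [e1, n2]⟩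
        · exact ⟨y₂, m2, e2, n2⟩
      · exact ⟨y₁, m1, n1, e1⟩
    have yu : B y u = B y u₁ := by rw [← hu, map_add, h2 y hyW u₂ hu₂, add_zero]
    have yv : B y v = B y v₁ := by rw [← hv, map_add, h2 y hyW v₂ hv₂, add_zero]
    rw [← yu] at hyu
    rw [← yv] at hyv
    obtain ⟨a₁, a1W, a1y, a1u⟩ := exists_sep hB hA hc h2 hyW hu₂ (u := u₂) fun t e => by
      rcases eq_or_ne t 0 with rfl | ht
      · exact hu0 (by rw [e, zero_smul])
      · rw [e, map_smul, LinearMap.smul_apply, smul_eq_zero] at q1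
        exact q1.elim ht hyu
    obtain ⟨a₂, a2W, a2y, a2v⟩ := exists_sep hB hA hc h2 hyW hv₂ (u := v₂) fun t e => by
      rcases eq_or_ne t 0 with rfl | ht
      · exact hv0 (by rw [e, zero_smul])
      · rw [e, map_smul, LinearMap.smul_apply, smul_eq_zero] at q3
        exact q3.elim ht hyu
    obtain ⟨a, haW, hay, hau, hav⟩ : ∃ a ∈ W₁, B a y = 0 ∧ B a u₂ ≠ 0 ∧ B a v₂ ≠ 0 := by
      by_cases e1 : B a₁ v₂ = 0
      · by_cases e2 : B a₂ u₂ = 0
        · exact ⟨a₁ + a₂, add_mem a1W a2W, by simp [a1y, a2y], by simp [e2, a1u],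
            by simp [e1, a2v]⟩
        · exact ⟨a₂, a2W, a2y, e2, a2v⟩
      · exact ⟨a₁, a1W, a1y, a1u, e1⟩
    have au : B a u = B a u₂ := by rw [← hu, map_add, h1 a haW u₁ hu₁, zero_add]
    have av : B a v = B a v₂ := by rw [← hv, map_add, h1 a haW v₁ hv₁, zero_add]
    have hg := L.mul_mem (L.mul_mem huv (hsr a haW y hyW hay)) (L.inv_mem huv)
    rw [sr_conj hA (hL huv)] at hg
    have hga : sr hA u v a = (a + B a v • u₁ + B a u • v₁) + (B a v • u₂ + B a u • v₂) := by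
      rw [sr_apply hA h]; nth_rw 2 [← hv]; nth_rw 1 [← hu]; module
    have hgy : sr hA u v y = (B y v • u₁ + B y u • v₁) + (y + B y v • u₂ + B y u • v₂) := by
      rw [sr_apply hA h]; nth_rw 2 [← hv]; nth_rw 1 [← hu]; module
    have m : ∀ x ∈ W₂, B x y = 0 := fun x hx => h2 x hx y hyW
    refine good hg (by rw [hL huv]; exact hay)
      (add_mem (add_mem haW (W₁.smul_mem _ hu₁)) (W₁.smul_mem _ hv₁))
      (add_mem (W₂.smul_mem _ hu₂) (W₂.smul_mem _ hv₂))
      (add_mem (W₁.smul_mem _ hu₁) (W₁.smul_mem _ hv₁))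
      (add_mem (add_mem hyW (W₂.smul_mem _ hu₂)) (W₂.smul_mem _ hv₂)) hga.symm hgy.symm ?_ ?_
    all_goals
      rw [sr_apply hA h, sr_apply hA h]
      simp only [map_add, map_smul, LinearMap.add_apply, LinearMap.smul_apply, smul_eq_mul, q1, q2,
        q3, m _ hu₂, m _ hv₂, hA.self_eq_zero, sw a y, sw a u₂, sw a v₂, hay, ← au, ← av]
    · by_cases p : B v₂ v = 0
      · left
        rw [p]
        ring_nf
        simpa [au, av, h20] using And.intro hav hau
      · right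
        ring_nf
        simpa [p, hyu, au] using hau
    · by_cases p : B v₂ v = 0
      · right
        rw [p]
        ring_nf
        simpa [h20] using And.intro hyv hyu
      · left
        ring_nf
        simpa [p, hyu, au] using hau
  by_cases gu : B u₂ u ≠ 0 ∨ B u₂ v ≠ 0
  · by_cases gv : B v₂ u ≠ 0 ∨ B v₂ v ≠ 0
    · exact good huv h hu₁ hu₂ hv₁ hv₂ hu hv gu gv
    · push Not at gv
      exact bad (by rwa [sr_comm hA h] at huv) (by rw [← LinearMap.IsAlt.neg hA, h, neg_zero])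
        hv₁ hv₂ hu₁ hu₂ hv hu hv0 hu0 gv.2 gv.1
  · push Not at gu
    exact bad huv h hu₁ hu₂ hv₁ hv₂ hu hv hu0 hv0 gu.1 gu.2

theorem spread (hB : B.Nondegenerate) (hA : B.IsAlt) (hc : IsCompl W₁ W₂)
    (h2 : ∀ x ∈ W₂, ∀ y ∈ W₂, B x y = 0) {L : Subgroup (V ≃ₗ[F] V)} (hL : L ≤ iso B)
    (hsr : ∀ a ∈ W₁, ∀ b ∈ W₂, B a b = 0 → sr hA a b ∈ L) {y : V} (hy : y ∈ W₂) (hy0 : y ≠ 0)
    (hlong : ∀ c, tv hA y c ∈ L) : ∀ y' ∈ W₂, y' ∈ centres hA L := by
  intro y' hy'
  by_cases hp : ∀ t : F, y' ≠ t • y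
  · obtain ⟨a, haW, hab, hay⟩ := exists_sep hB hA hc h2 (sub_mem hy' hy) hy (u := y)
      (y := y' - y) fun t e => by
        rcases eq_or_ne t 0 with rfl | ht
        · exact hy0 (by rw [e, zero_smul])
        · refine hp (t⁻¹ + 1) ?_
          rw [add_smul, one_smul]
          nth_rw 1 [e]
          rw [smul_smul, inv_mul_cancel₀ ht, one_smul, sub_add_cancel]
    have hb : B a ((B y a)⁻¹ • (y' - y)) = 0 := by rw [map_smul, hab, smul_zero]
    have h := centres_invariant hA hL (hsr a haW _ (W₂.smul_mem _ (sub_mem hy' hy)) hb) hlong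
    rw [sr_apply hA hb, map_smul, h2 y hy _ (sub_mem hy' hy), smul_zero, zero_smul, add_zero,
      smul_smul, mul_inv_cancel₀ (by rw [← LinearMap.IsAlt.neg hA, neg_ne_zero]; exact hay),
      one_smul, add_sub_cancel] at h
    exact h
  · push Not at hp
    obtain ⟨t, rfl⟩ := hp
    intro c
    rw [tv_smul]
    exact hlong _

/-- A matrix in `GL` as a linear equivalence. -/
noncomputable def toEquiv {ι : Type} [Fintype ι] [DecidableEq ι] {F : Type*} [Field F] :
    GL ι F ≃* ((ι → F) ≃ₗ[F] (ι → F)) :=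
  Matrix.GeneralLinearGroup.toLin.trans (LinearMap.GeneralLinearGroup.generalLinearEquiv F (ι → F))

theorem exists_swap (hB : B.Nondegenerate) (hA : B.IsAlt) (hc : IsCompl W₁ W₂)
    (h1 : ∀ x ∈ W₁, ∀ y ∈ W₁, B x y = 0) (h2 : ∀ x ∈ W₂, ∀ y ∈ W₂, B x y = 0)
    (hdim : finrank F W₁ = finrank F W₂) :
    ∃ s : V ≃ₗ[F] V, s ∈ iso B ∧ (∀ x ∈ W₁, s x ∈ W₂) ∧ ∀ y ∈ W₂, s y ∈ W₁ := by
  classical
  let κ : W₂ →ₗ[F] Module.Dual F W₁ := LinearMap.compl₂ (LinearMap.comp (LinearMap.flip B) W₂.subtype) W₁.subtype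
  have hκ : ∀ (y : W₂) (x : W₁), κ y x = B (x : V) (y : V) := fun y x => rfl
  have hinj : Function.Injective κ := by
    rw [← LinearMap.ker_eq_bot, Submodule.eq_bot_iff]
    intro y hy
    exact Subtype.ext (pairing hB hA hc h2 y.2 fun a ha => by
      rw [← hκ y ⟨a, ha⟩, show κ y = 0 from hy]; rfl)
  let κ' : W₂ ≃ₗ[F] Module.Dual F W₁ := LinearEquiv.ofBijective κ
    ⟨hinj, (LinearMap.injective_iff_surjective_of_finrank_eq_finrank
      (by rw [Subspace.dual_finrank_eq, hdim])).mp hinj⟩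
  let bs := Module.finBasis F W₁
  let θ : W₁ ≃ₗ[F] W₂ := bs.toDualEquiv.trans κ'.symm
  have hθ : ∀ x x' : W₁, B (x : V) (θ x' : V) = B (x' : V) (θ x : V) := by
    intro x x'
    rw [← hκ, ← hκ]
    show κ' (κ'.symm _) x = κ' (κ'.symm _) x'
    rw [LinearEquiv.apply_symm_apply, LinearEquiv.apply_symm_apply]
    have hsym : bs.toDual = bs.toDual.flip := bs.ext fun i => bs.ext fun j => by
      simp [Module.Basis.toDual_apply, eq_comm]
    exact LinearMap.congr_fun (LinearMap.congr_fun hsym x') x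
  let p₁ := W₁.projectionOnto W₂ hc
  let p₂ := W₂.projectionOnto W₁ hc.symm
  have hp : ∀ v, (p₁ v : V) + (p₂ v : V) = v := fun v => by
    obtain ⟨a, ha, b, hb, rfl⟩ := Submodule.mem_sup.mp (hc.sup_eq_top ▸ Submodule.mem_top : v ∈ W₁ ⊔ W₂)
    simp [p₁, p₂, Submodule.projectionOnto_apply_of_mem_left hc ha,
      Submodule.projectionOnto_apply_of_mem_left hc.symm hb,
      Submodule.projectionOnto_apply_of_mem_right hc hb,
      Submodule.projectionOnto_apply_of_mem_right hc.symm ha]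
  let S : V →ₗ[F] V := W₂.subtype.comp (θ.toLinearMap.comp p₁) -
    W₁.subtype.comp (θ.symm.toLinearMap.comp p₂)
  have hS : ∀ v, S v = (θ (p₁ v) : V) - (θ.symm (p₂ v) : V) := fun v => rfl
  have hpres : ∀ u v, B (S u) (S v) = B u v := by
    intro u v
    have key : ∀ (x : W₁) (y : W₂), B (x : V) (y : V) = B (θ.symm y : V) (θ x : V) := by
      intro x y
      have := hθ x (θ.symm y)
      rwa [θ.apply_symm_apply] at this
    conv_rhs => rw [← hp u, ← hp v]
    simp only [hS, map_sub, map_add, LinearMap.sub_apply, LinearMap.add_apply,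
      h1 _ (θ.symm _).2 _ (θ.symm _).2, h1 _ (p₁ _).2 _ (p₁ _).2, h2 _ (θ _).2 _ (θ _).2,
      h2 _ (p₂ _).2 _ (p₂ _).2, key (p₁ u) (p₂ v)]
    rw [← LinearMap.IsAlt.neg hA (θ.symm (p₂ v) : V) (θ (p₁ u) : V),
      ← LinearMap.IsAlt.neg hA (p₁ v : V) (p₂ u : V), key (p₁ v) (p₂ u)]
    ring
  have hSinj : Function.Injective S := by
    rw [← LinearMap.ker_eq_bot, Submodule.eq_bot_iff]
    intro x hx
    exact hB.1 x fun y => by rw [← hpres, show S x = 0 from hx, map_zero, LinearMap.zero_apply]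
  refine ⟨LinearEquiv.ofBijective S ⟨hSinj, LinearMap.injective_iff_surjective.mp hSinj⟩, hpres,
    fun x hx => ?_, fun y hy => ?_⟩
  · show S x ∈ W₂
    rw [hS, show p₂ x = 0 from Submodule.projectionOnto_apply_of_mem_right hc.symm hx, map_zero]
    simp
  · show S y ∈ W₁
    rw [hS, show p₁ y = 0 from Submodule.projectionOnto_apply_of_mem_right hc hy, map_zero]
    simp

/-- The maximality statement for `m ≥ 3`. -/
theorem main {F : Type*} [Field F] [Fintype F] (m : ℕ) (hm : 3 ≤ m) (hodd : Odd (Fintype.card F)) (D : Fin 2 → Submodule F (Fin m ⊕ Fin m → F)) (hD : Cfsg.Geo.IsMDecomposition m D) (hts : ∀ i, Cfsg.Geo.IsTotallySingularFor (Cfsg.sympForm m F) (D i)) : Cfsg.Geo.IsMaximalIn (Cfsg.spGL m F) (Cfsg.Geo.decompositionStabilizer D ⊓ Cfsg.spGL m F) := by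
  classical
  set B := spB m F with hBdef
  have hA : B.IsAlt := spB_isAlt m F
  have hB : B.Nondegenerate := spB_nondegenerate m F
  have hfin := hD.finrank_eq
  have hsing : ∀ i, ∀ x ∈ D i, ∀ y ∈ D i, B x y = 0 := fun i x hx y hy => by
    rw [spB_apply]; exact hts i x hx y hy
  have hc : ∀ i : Fin 2, IsCompl (D i) (D (Equiv.swap 0 1 i)) := by
    have h01 : IsCompl (D 0) (D 1) := by
      refine ⟨hD.indep.pairwiseDisjoint (by decide : (0 : Fin 2) ≠ 1), ?_⟩
      rw [codisjoint_iff, eq_top_iff, ← hD.iSup_eq_top, iSup_le_iff, Fin.forall_fin_two]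
      exact ⟨le_sup_left, le_sup_right⟩
    rw [Fin.forall_fin_two]
    exact ⟨by simpa using h01, by simpa using h01.symm⟩
  have h20 : (2 : F) ≠ 0 := by
    intro h
    haveI : CharP F 2 := CharTwo.of_one_ne_zero_of_two_eq_zero one_ne_zero h
    have := FiniteField.even_card_of_char_two (F := F) (ringChar.eq F 2)
    rw [Nat.odd_iff] at hodd
    omega
  let e : GL (Fin m ⊕ Fin m) F ≃* ((Fin m ⊕ Fin m → F) ≃ₗ[F] (Fin m ⊕ Fin m → F)) := toEquiv
  have hsp : ∀ g, g ∈ Cfsg.spGL m F ↔ e g ∈ iso B := by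
    intro g
    constructor
    · intro h u v
      rw [spB_apply, spB_apply]
      exact h u v
    · intro h u v
      have := h u v
      rw [spB_apply, spB_apply] at this
      exact this
  set N := Cfsg.Geo.decompositionStabilizer D ⊓ Cfsg.spGL m F
  have hmemN : ∀ g : GL (Fin m ⊕ Fin m) F, e g ∈ iso B → ∀ σ : Equiv.Perm (Fin 2),
      (∀ i, ∀ x ∈ D i, e g x ∈ D (σ i)) → g ∈ N := by
    intro g hg σ hσ
    refine Subgroup.mem_inf.mpr ⟨⟨σ, fun i => ?_⟩, (hsp g).mpr hg⟩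
    refine Submodule.eq_of_le_of_finrank_le ?_ (le_of_eq ?_)
    · rintro _ ⟨x, hx, rfl⟩
      exact hσ i x hx
    · rw [hfin, show Matrix.toLin' (g : Matrix _ _ F) = (e g).toLinearMap from
        LinearMap.ext fun x => rfl, LinearEquiv.finrank_map_eq, hfin]
  refine ⟨lt_of_le_of_ne inf_le_right fun heq => ?_, fun L hNL hLG => ?_⟩
  · have h01 := hc 0
    rw [Equiv.swap_apply_left] at h01
    obtain ⟨b, hb, hb0⟩ := Submodule.exists_mem_ne_zero_of_ne_bot
      (fun he : D 1 = ⊥ => by have := hfin 1; rw [he, finrank_bot] at this; omega)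
    obtain ⟨x, hx, hxb⟩ : ∃ x ∈ D 0, B x b ≠ 0 := by
      by_contra h; push Not at h; exact hb0 (pairing hB hA h01 (hsing 1) hb h)
    have hmem : e.symm (tv hA b 1) ∈ N := by
      rw [heq, hsp, MulEquiv.apply_symm_apply]; exact tv_mem_iso hA _ _
    obtain ⟨σ, hσ⟩ := hmem.1
    have h1 : e (e.symm (tv hA b 1)) x ∈ D (σ 0) := by rw [← hσ 0]; exact ⟨x, hx, rfl⟩
    rw [MulEquiv.apply_symm_apply, tv_apply, one_mul] at h1
    have hsm : B x b • b ∈ D 1 := (D 1).smul_mem _ hb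
    rcases Fin.exists_fin_two.mp ⟨σ 0, rfl⟩ with hσ0 | hσ0 <;> rw [hσ0] at h1
    · have : B x b • b ∈ D 0 ⊓ D 1 := ⟨by simpa using sub_mem h1 hx, hsm⟩
      rw [h01.inf_eq_bot, Submodule.mem_bot, smul_eq_zero] at this
      exact this.elim hxb hb0
    · have : x ∈ D 0 ⊓ D 1 := ⟨hx, by simpa using sub_mem h1 hsm⟩
      rw [h01.inf_eq_bot, Submodule.mem_bot] at this
      exact hxb (by simp [this])
  · by_cases hLN : L ≤ N
    · exact Or.inl (le_antisymm hLN hNL)
    right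
    obtain ⟨g, hgL, hgN⟩ := SetLike.not_le_iff_exists.mp hLN
    let L' := L.map e.toMonoidHom
    have hL' : L' ≤ iso B := by
      rintro _ ⟨h, hh, rfl⟩
      exact (hsp h).mp (hLG hh)
    have hsub : ∀ x, e.symm x ∈ N → x ∈ L' := fun x hx => ⟨e.symm x, hNL hx, e.apply_symm_apply x⟩
    have hsr : ∀ i, ∀ a ∈ D i, ∀ b ∈ D (Equiv.swap 0 1 i), B a b = 0 → sr hA a b ∈ L' := by
      intro i a ha b hb hab
      refine hsub _ (hmemN _ (by rw [MulEquiv.apply_symm_apply]; exact sr_mem_iso hA a b) 1 fun j x hx => ?_)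
      rw [MulEquiv.apply_symm_apply, sr_apply hA hab, Equiv.Perm.one_apply]
      have hji : j = i ∨ j = Equiv.swap 0 1 i := (by decide : ∀ i j : Fin 2, j = i ∨ j = Equiv.swap 0 1 i) i j
      rcases hji with rfl | rfl
      · rw [hsing j x hx a ha, zero_smul, add_zero]
        exact add_mem hx ((D j).smul_mem _ ha)
      · rw [hsing _ x hx b hb, zero_smul, add_zero]
        exact add_mem hx ((D _).smul_mem _ hb)
    obtain ⟨s, hs, hs0, hs1⟩ := exists_swap hB hA (by simpa using hc 0 : IsCompl (D 0) (D 1))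
      (hsing 0) (hsing 1) ((hfin 0).trans (hfin 1).symm)
    have hsL : s ∈ L' := hsub s (hmemN _ (by rw [MulEquiv.apply_symm_apply]; exact hs) (Equiv.swap 0 1)
      (by rw [MulEquiv.apply_symm_apply, Fin.forall_fin_two]; exact ⟨by simpa using hs0, by simpa using hs1⟩))
    have hsswap : ∀ i, ∀ x ∈ D i, s x ∈ D (Equiv.swap 0 1 i) := by
      rw [Fin.forall_fin_two]; exact ⟨by simpa using hs0, by simpa using hs1⟩
    -- a long root element with centre in one of the two subspaces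
    obtain ⟨i, y, hy, hy0, hlong⟩ : ∃ i, ∃ y ∈ D i, y ≠ 0 ∧ ∀ c, tv hA y c ∈ L' := by
      by_contra hno
      push Not at hno
      have key : ∀ x ∈ D 0, ∀ y ∈ D 1, B x y = 0 → x ≠ 0 → y ≠ 0 →
          (e g x ∈ D 0 ∧ e g y ∈ D 1) ∨ (e g x ∈ D 1 ∧ e g y ∈ D 0) := by
        intro x hx y hy hxy hx0 hy0
        have hg' : e g ∈ L' := ⟨g, hgL, rfl⟩
        have huv := L'.mul_mem (L'.mul_mem hg' (hsr 0 x hx y (by simpa using hy) hxy)) (L'.inv_mem hg')
        rw [sr_conj hA (hL' hg')] at huv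
        have hguv : B (e g x) (e g y) = 0 := by rw [hL' hg']; exact hxy
        have h01 : IsCompl (D 0) (D 1) := by simpa using hc 0
        obtain ⟨u₁, hu₁, u₂, hu₂, hu⟩ := Submodule.mem_sup.mp
          (h01.sup_eq_top ▸ Submodule.mem_top : e g x ∈ D 0 ⊔ D 1)
        obtain ⟨v₁, hv₁, v₂, hv₂, hv⟩ := Submodule.mem_sup.mp
          (h01.sup_eq_top ▸ Submodule.mem_top : e g y ∈ D 0 ⊔ D 1)
        have e2 : u₂ = 0 ∨ v₂ = 0 := by
          by_contra h
          push Not at h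
          obtain ⟨y', hy', hy'0, hl⟩ := long_in hB hA h01 (hsing 0) (hsing 1)
            (by rw [hfin]; omega) h20 hL' (by simpa using hsr 0) huv hguv hu₁ hu₂ hv₁ hv₂ hu hv h.1 h.2
          obtain ⟨c, hc⟩ := hno 1 y' hy' hy'0
          exact hc (hl c)
        have e1 : u₁ = 0 ∨ v₁ = 0 := by
          by_contra h
          push Not at h
          obtain ⟨y', hy', hy'0, hl⟩ := long_in hB hA h01.symm (hsing 1) (hsing 0)
            (by rw [hfin]; omega) h20 hL' (by simpa using hsr 1) huv hguv hu₂ hu₁ hv₂ hv₁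
            (by rw [add_comm, hu]) (by rw [add_comm, hv]) h.1 h.2
          obtain ⟨c, hc⟩ := hno 0 y' hy' hy'0
          exact hc (hl c)
        have hgx : e g x ≠ 0 := fun h => hx0 ((map_eq_zero_iff _ (e g).injective).mp h)
        have hgy : e g y ≠ 0 := fun h => hy0 ((map_eq_zero_iff _ (e g).injective).mp h)
        rcases e2 with h | h <;> rcases e1 with h' | h'
        · exact absurd (by rw [← hu, h, h', add_zero]) hgx
        · left
          rw [← hu, ← hv, h, h', add_zero, zero_add]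
          exact ⟨hu₁, hv₂⟩
        · right
          rw [← hu, ← hv, h, h', add_zero, zero_add]
          exact ⟨hu₂, hv₁⟩
        · exact absurd (by rw [← hv, h, h', add_zero]) hgy
      have h01 : IsCompl (D 0) (D 1) := by simpa using hc 0
      have ex : ∀ (i j : Fin 2), IsCompl (D i) (D j) → ∀ x, ∃ y ∈ D j, B x y = 0 ∧ y ≠ 0 := by
        intro i j _ x
        have h1 := LinearMap.finrank_range_add_finrank_ker ((B x).comp (D j).subtype)
        have h2 := Submodule.finrank_le (LinearMap.range ((B x).comp (D j).subtype))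
        rw [Module.finrank_self] at h2
        rw [hfin] at h1
        obtain ⟨y, hy, hy0⟩ := Submodule.exists_mem_ne_zero_of_ne_bot
          (fun he : LinearMap.ker ((B x).comp (D j).subtype) = ⊥ => by
            rw [he, finrank_bot] at h1; omega)
        exact ⟨y, y.2, hy, fun h => hy0 (Subtype.ext h)⟩
      have inunion : ∀ i, ∀ x ∈ D i, e g x ∈ D 0 ∨ e g x ∈ D 1 := by
        rw [Fin.forall_fin_two]
        constructor
        · intro x hx
          rcases eq_or_ne x 0 with rfl | hx0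
          · simp
          obtain ⟨y, hy, hxy, hy0⟩ := ex 0 1 h01 x
          exact (key x hx y hy hxy hx0 hy0).imp And.left And.left
        · intro y hy
          rcases eq_or_ne y 0 with rfl | hy0
          · simp
          obtain ⟨x, hx, hyx, hx0⟩ := ex 1 0 h01.symm y
          have hxy : B x y = 0 := by rw [← LinearMap.IsAlt.neg hA, hyx, neg_zero]
          exact (key x hx y hy hxy hx0 hy0).symm.imp And.right And.right
      have hone : ∀ i, ∃ j, ∀ x ∈ D i, e g x ∈ D j := by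
        intro i
        by_contra hne
        push Not at hne
        obtain ⟨x, hx, hx0⟩ := hne 0
        obtain ⟨x', hx', hx1⟩ := hne 1
        have a1 := (inunion i x hx).resolve_left hx0
        have a2 := (inunion i x' hx').resolve_right hx1
        rcases inunion i (x + x') (add_mem hx hx') with h | h <;> rw [map_add] at h
        · exact hx0 (by simpa using sub_mem h a2)
        · exact hx1 (by simpa using sub_mem h a1)
      choose σ hσ using hone
      have hinj : Function.Injective σ := by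
        intro a b hab
        by_contra hne
        have h1 : (D a ⊔ D b).map (e g).toLinearMap ≤ D (σ a) := by
          rw [Submodule.map_sup, sup_le_iff]
          exact ⟨fun _ ⟨z, hz, he⟩ => he ▸ hσ a z hz, fun _ ⟨z, hz, he⟩ => by rw [hab]; exact he ▸ hσ b z hz⟩
        have h2 := Submodule.finrank_mono h1
        rw [LinearEquiv.finrank_map_eq] at h2
        have h3 := Submodule.finrank_sup_add_finrank_inf_eq (D a) (D b)
        rw [disjoint_iff.mp (hD.indep.pairwiseDisjoint hne), finrank_bot, hfin, hfin] at h3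
        rw [hfin] at h2
        omega
      exact hgN (hmemN g ((hsp g).mp (hLG hgL))
        (Equiv.ofBijective σ (Finite.injective_iff_bijective.mp hinj)) (fun i x hx => hσ i x hx))
    -- all centres
    have hi' : ∀ i : Fin 2, Equiv.swap 0 1 (Equiv.swap 0 1 i) = i := Equiv.swap_apply_self 0 1
    have hWi : ∀ y' ∈ D i, y' ∈ centres hA L' :=
      spread hB hA (hc i).symm (hsing i) hL'
        (fun a ha b hb h => hsr _ a ha b (by rw [hi']; exact hb) h) hy hy0 hlong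
    have hWj : ∀ x ∈ D (Equiv.swap 0 1 i), x ∈ centres hA L' := by
      intro x hx
      have h1 := hsswap _ x hx
      rw [hi'] at h1
      have h2 := centres_invariant hA hL' (L'.inv_mem hsL) (hWi _ h1)
      rwa [show s⁻¹ (s x) = x by rw [← LinearEquiv.mul_apply, inv_mul_cancel]; rfl] at h2
    have hall : L' = iso B := by
      refine eq_iso_of_centres hB hA hL' fun v => ?_
      obtain ⟨a, ha, b, hb, rfl⟩ := Submodule.mem_sup.mp
        ((hc i).sup_eq_top ▸ Submodule.mem_top : v ∈ D i ⊔ D (Equiv.swap 0 1 i))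
      rcases eq_or_ne a 0 with rfl | ha0
      · rw [zero_add]; exact hWj b hb
      have step : ∀ w ∈ centres hA L', ∀ b ∈ D (Equiv.swap 0 1 i), B w b ≠ 0 →
          w + b ∈ centres hA L' := by
        intro w hw b hb hwb
        have h := centres_invariant hA hL' (hWj b hb (B w b)⁻¹) hw
        rwa [tv_apply, inv_mul_cancel₀ hwb, one_smul] at h
      by_cases hab : B a b = 0
      · obtain ⟨b₁, hb₁, hab₁⟩ : ∃ b₁ ∈ D (Equiv.swap 0 1 i), B a b₁ ≠ 0 := by
          by_contra h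
          push Not at h
          exact ha0 (pairing hB hA (hc i).symm (hsing i) ha fun x hx => by
            rw [← LinearMap.IsAlt.neg hA, h x hx, neg_zero])
        have h := step _ (step a (hWi a ha) b₁ hb₁ hab₁) (b - b₁) (sub_mem hb hb₁) (by
          rw [map_add, LinearMap.add_apply, hsing _ b₁ hb₁ _ (sub_mem hb hb₁), add_zero, map_sub,
            hab, zero_sub, neg_ne_zero]
          exact hab₁)
        rwa [add_assoc, add_sub_cancel] at h
      · exact step a (hWi a ha) b hb hab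
    refine le_antisymm hLG fun x hx => ?_
    have : e x ∈ L' := hall ▸ (hsp x).mp hx
    obtain ⟨y, hy, hyx⟩ := this
    exact e.injective hyx ▸ hy

/-- The maximality statement for `m ≥ 5`. -/
theorem isMaximal {F : Type*} [Field F] [Fintype F] (m : ℕ) (hm : 5 ≤ m) (hodd : Odd (Fintype.card F)) (D : Fin 2 → Submodule F (Fin m ⊕ Fin m → F)) (hD : Cfsg.Geo.IsMDecomposition m D) (hts : ∀ i, Cfsg.Geo.IsTotallySingularFor (Cfsg.sympForm m F) (D i)) : Cfsg.Geo.IsMaximalIn (Cfsg.spGL m F) (Cfsg.Geo.decompositionStabilizer D ⊓ Cfsg.spGL m F) :=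
  main m (le_trans (by norm_num) hm) hodd D hD hts

end Cfsg.Lib.Linear.SpGeo.Pair
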