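import Cfsg.Agent.Lib.Linear.SymplecticDecomp

/-! Maximality in `Sp_2m`, `m ≥ 3`: Decomp. -/

set_option autoImplicit false
open Cfsg

namespace Cfsg.Lib.Linear.SpGeo.Decomp

open scoped Matrix
open Cfsg.Lib.Linear.Symp Module

/-- A matrix in `GL` as a linear equivalence. -/
noncomputable def toEquiv {ι : Type} [Fintype ι] [DecidableEq ι] {F : Type*} [Field F] :
    GL ι F ≃* ((ι → F) ≃ₗ[F] (ι → F)) :=
  Matrix.GeneralLinearGroup.toLin.trans (LinearMap.GeneralLinearGroup.generalLinearEquiv F (ι → F))

theorem toEquiv_apply {ι : Type} [Fintype ι] [DecidableEq ι] {F : Type*} [Field F] (g : GL ι F)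
    (v : ι → F) : toEquiv g v = (g : Matrix ι ι F) *ᵥ v := rfl

/-- The maximality statement for `m ≥ 3`. -/
theorem main' {F : Type*} [Field F] [Fintype F] (m : ℕ) (hm : 2 ≤ m) {t : ℕ} (k : ℕ) (D : Fin t → Submodule F (Fin m ⊕ Fin m → F)) (hD : Cfsg.Geo.IsNondegenerateMDecomposition (Cfsg.sympForm m F) k D) (hex : ¬ (k = 2 ∧ Fintype.card F = 2)) : Cfsg.Geo.IsMaximalIn (Cfsg.spGL m F) (Cfsg.Geo.decompositionStabilizer D ⊓ Cfsg.spGL m F) := by
  classical
  set B := spB m F with hBdef
  have hA : B.IsAlt := spB_isAlt m F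
  have hB : B.Nondegenerate := spB_nondegenerate m F
  have hfin := hD.decomp.finrank_eq
  have horth : ∀ i j, i ≠ j → ∀ x ∈ D i, ∀ y ∈ D j, B x y = 0 := by
    intro i j hij x hx y hy
    rw [spB_apply]
    exact hD.orthogonal i j hij x hx y hy
  have hnd : ∀ i, NondegOn B (D i) := by
    intro i x hx hx0
    obtain ⟨-, y, hy, h⟩ := hD.nondegenerate i x hx hx0
    exact ⟨y, hy, by rw [spB_apply]; exact h⟩
  obtain ⟨O⟩ := exists_orthDecomp hA hnd horth hD.decomp.iSup_eq_top
  have hq : 3 ≤ k ∨ ∃ μ : F, μ ≠ 0 ∧ μ ≠ -1 := by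
    by_cases h : Fintype.card F = 2
    · left
      have hk2 : k ≠ 2 := fun e => hex ⟨e, h⟩
      have hk1 : k ≠ 1 := by
        intro e
        have i : Fin t := ⟨0, by have := hD.decomp.two_le; omega⟩
        obtain ⟨x, hx, hx0⟩ := Submodule.exists_mem_ne_zero_of_ne_bot
          (fun he : D i = ⊥ => by have := hfin i; rw [he, finrank_bot] at this; omega)
        obtain ⟨y, hy, hxy⟩ := hnd i x hx hx0
        obtain ⟨c, hc⟩ := exists_smul_eq_of_finrank_eq_one ((hfin i).trans e)
          (x := (⟨x, hx⟩ : D i)) (fun h => hx0 (congrArg Subtype.val h)) ⟨y, hy⟩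
        apply hxy
        rw [show y = c • x from (congrArg Subtype.val hc).symm]
        simp [hA.self_eq_zero]
      have := hD.decomp.pos
      omega
    · right
      have h3 : ({0, -1} : Finset F).card < Fintype.card F := by
        have := Fintype.one_lt_card (α := F)
        have := Finset.card_le_two (a := (0 : F)) (b := -1)
        omega
      obtain ⟨μ, -, hμ⟩ := Finset.exists_mem_notMem_of_card_lt_card
        (s := ({0, -1} : Finset F)) (t := Finset.univ) (by rwa [Finset.card_univ])
      simp only [Finset.mem_insert, Finset.mem_singleton, not_or] at hμ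
      exact ⟨μ, hμ⟩
  let e : GL (Fin m ⊕ Fin m) F ≃* ((Fin m ⊕ Fin m → F) ≃ₗ[F] (Fin m ⊕ Fin m → F)) := toEquiv
  have hsp : ∀ g, g ∈ Cfsg.spGL m F ↔ e g ∈ iso B := by
    intro g
    constructor
    · intro h u v
      rw [spB_apply, spB_apply]
      exact h u v
    · intro h u v
      have := h u v
      rw [spB_apply, spB_apply] at this
      exact this
  -- membership in the stabilizer
  set N := Cfsg.Geo.decompositionStabilizer D ⊓ Cfsg.spGL m F
  have hmemN : ∀ g : GL (Fin m ⊕ Fin m) F, e g ∈ iso B → ∀ σ : Equiv.Perm (Fin t),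
      (∀ i, ∀ x ∈ D i, e g x ∈ D (σ i)) → g ∈ N := by
    intro g hg σ hσ
    refine Subgroup.mem_inf.mpr ⟨⟨σ, fun i => ?_⟩, (hsp g).mpr hg⟩
    refine Submodule.eq_of_le_of_finrank_le ?_ (le_of_eq ?_)
    · rintro _ ⟨x, hx, rfl⟩
      exact hσ i x hx
    · rw [hfin, show Matrix.toLin' (g : Matrix _ _ F) = (e g).toLinearMap from
        LinearMap.ext fun x => rfl, LinearEquiv.finrank_map_eq, hfin]
  have htv : ∀ i, ∀ v ∈ D i, ∀ c : F, e.symm (tv hA v c) ∈ N := by
    intro i v hv c
    refine hmemN _ (by rw [MulEquiv.apply_symm_apply]; exact tv_mem_iso hA v c) 1 fun j x hx => ?_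
    rw [MulEquiv.apply_symm_apply, Equiv.Perm.one_apply, tv_apply]
    rcases eq_or_ne j i with rfl | hji
    · exact (D j).add_mem hx ((D j).smul_mem _ hv)
    · rw [horth j i hji x hx v hv, mul_zero, zero_smul, add_zero]
      exact hx
  refine ⟨lt_of_le_of_ne inf_le_right fun heq => ?_, fun L hNL hLG => ?_⟩
  · -- a transvection outside the stabilizer
    have ht := hD.decomp.two_le
    let i : Fin t := ⟨0, by omega⟩
    let j : Fin t := ⟨1, by omega⟩
    have hij : i ≠ j := by simp [i, j]
    obtain ⟨a, ha, ha0⟩ := Submodule.exists_mem_ne_zero_of_ne_bot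
      (fun he : D i = ⊥ => by have := hfin i; rw [he, finrank_bot] at this; have := hD.decomp.pos; omega)
    obtain ⟨b, hb, hb0⟩ := Submodule.exists_mem_ne_zero_of_ne_bot
      (fun he : D j = ⊥ => by have := hfin j; rw [he, finrank_bot] at this; have := hD.decomp.pos; omega)
    obtain ⟨x, hx, hax⟩ := hnd i a ha ha0
    have hmem : e.symm (tv hA (a + b) 1) ∈ N := by
      rw [heq, hsp, MulEquiv.apply_symm_apply]; exact tv_mem_iso hA _ _
    obtain ⟨σ, hσ⟩ := hmem.1
    have h1 : e (e.symm (tv hA (a + b) 1)) x ∈ D (σ i) := by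
      rw [← hσ i]; exact ⟨x, hx, rfl⟩
    rw [MulEquiv.apply_symm_apply, tv_apply, one_mul] at h1
    have hxab : B x (a + b) = B x a := by rw [map_add, horth i j hij x hx b hb, add_zero]
    rw [hxab] at h1
    have hxa : B x a ≠ 0 := by rw [← LinearMap.IsAlt.neg hA, neg_ne_zero]; exact hax
    have hi : O.pr i (x + B x a • (a + b)) = x + B x a • a := by
      simp [O.self i x hx, O.self i a ha, O.cross i j hij b hb]
    have hj : O.pr j (x + B x a • (a + b)) = B x a • b := by
      simp [O.self j b hb, O.cross j i hij.symm a ha, O.cross j i hij.symm x hx]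
    rcases eq_or_ne (σ i) i with hσi | hσi
    · rw [O.cross j (σ i) (by rw [hσi]; exact hij.symm) _ h1] at hj
      exact (smul_ne_zero hxa hb0) hj.symm
    · rw [O.cross i (σ i) hσi.symm _ h1] at hi
      have := congrArg (fun y => B a y) hi
      simp [hA.self_eq_zero] at this
      exact hax this.symm
  · by_cases hLN : L ≤ N
    · exact Or.inl (le_antisymm hLN hNL)
    right
    obtain ⟨g, hgL, hgN⟩ := SetLike.not_le_iff_exists.mp hLN
    let L' := L.map e.toMonoidHom
    have hL' : L' ≤ iso B := by
      rintro _ ⟨h, hh, rfl⟩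
      exact (hsp h).mp (hLG hh)
    have hsub : ∀ x, e.symm x ∈ N → x ∈ L' := fun x hx => ⟨e.symm x, hNL hx, e.apply_symm_apply x⟩
    have hex' : ∃ g ∈ L', ∃ l, ∃ z ∈ D l, ∀ i, g z ∉ D i := by
      by_contra hne
      push Not at hne
      have hne' := hne (e g) ⟨g, hgL, rfl⟩
      have hone : ∀ l, ∃ i, ∀ z ∈ D l, e g z ∈ D i := by
        intro l
        obtain ⟨z₀, hz₀, hz₀0⟩ := Submodule.exists_mem_ne_zero_of_ne_bot
          (fun he : D l = ⊥ => by have := hfin l; rw [he, finrank_bot] at this; have := hD.decomp.pos; omega)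
        obtain ⟨i, hi⟩ := hne' l z₀ hz₀
        refine ⟨i, fun z hz => ?_⟩
        by_contra hzi
        obtain ⟨i', hi'⟩ := hne' l z hz
        obtain ⟨i'', hi''⟩ := hne' l (z + z₀) (add_mem hz hz₀)
        rw [map_add] at hi''
        have hii' : i ≠ i' := fun h => hzi (h ▸ hi')
        have h0 : e g z₀ ≠ 0 := fun h => hz₀0 ((map_eq_zero_iff _ (e g).injective).mp h)
        rcases eq_or_ne i'' i with rfl | h2
        · exact hzi (by simpa using sub_mem hi'' hi)
        · have := O.cross i i'' h2.symm _ hi''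
          rw [map_add, O.cross i i' hii' _ hi', zero_add, O.self i _ hi] at this
          exact h0 this
      choose σ hσ using hone
      have hinj : Function.Injective σ := by
        intro a b hab
        by_contra hne
        have h1 : (D a ⊔ D b).map (e g).toLinearMap ≤ D (σ a) := by
          rw [Submodule.map_sup, sup_le_iff]
          exact ⟨fun _ ⟨z, hz, he⟩ => he ▸ hσ a z hz, fun _ ⟨z, hz, he⟩ => by rw [hab]; exact he ▸ hσ b z hz⟩
        have h2 := Submodule.finrank_mono h1
        rw [LinearEquiv.finrank_map_eq] at h2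
        have h3 := Submodule.finrank_sup_add_finrank_inf_eq (D a) (D b)
        rw [disjoint_iff.mp (hD.decomp.indep.pairwiseDisjoint hne), finrank_bot, hfin, hfin] at h3
        rw [hfin] at h2
        have := hD.decomp.pos
        omega
      exact hgN (hmemN g ((hsp g).mp (hLG hgL))
        (Equiv.ofBijective σ (Finite.injective_iff_bijective.mp hinj)) (fun i x hx => hσ i x hx))
    have hswap : ∀ a b, a ≠ b → ∃ h ∈ L', (∀ x ∈ D a, h x ∈ D b) ∧
        ∀ i, i ≠ a → i ≠ b → ∀ x ∈ D i, h x = x := by
      intro a b hab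
      obtain ⟨φ, hφb, hφ⟩ := exists_isometry_between hA k (D a) (D b) (le_of_eq (hfin a)) (hnd a)
        (hnd b) (le_of_eq ((hfin a).trans (hfin b).symm))
      let φ' : D a →ₗ[F] D b := φ.codRestrict (D b) hφb
      have hinj : Function.Injective φ' := by
        rw [← LinearMap.ker_eq_bot, Submodule.eq_bot_iff]
        intro x hx
        by_contra h0
        obtain ⟨y, hy, hxy⟩ := hnd a x x.2 fun h => h0 (Subtype.ext h)
        apply hxy
        rw [← hφ x ⟨y, hy⟩, show φ x = 0 from congrArg Subtype.val hx, map_zero,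
          LinearMap.zero_apply]
      let ψ : D a ≃ₗ[F] D b := LinearEquiv.ofBijective φ'
        ⟨hinj, (LinearMap.injective_iff_surjective_of_finrank_eq_finrank
          ((hfin a).trans (hfin b).symm)).mp hinj⟩
      have hψ : ∀ x y : D a, B (ψ x : Fin m ⊕ Fin m → F) (ψ y) = B (x : Fin m ⊕ Fin m → F) y := hφ
      let pa : (Fin m ⊕ Fin m → F) →ₗ[F] D a := (O.pr a).codRestrict (D a) (O.mem a)
      let pb : (Fin m ⊕ Fin m → F) →ₗ[F] D b := (O.pr b).codRestrict (D b) (O.mem b)
      let S : (Fin m ⊕ Fin m → F) →ₗ[F] (Fin m ⊕ Fin m → F) := LinearMap.id - O.pr a - O.pr b +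
        (D b).subtype.comp (ψ.toLinearMap.comp pa) + (D a).subtype.comp (ψ.symm.toLinearMap.comp pb)
      have hS : ∀ v i, O.pr i (S v) = if i = a then (ψ.symm (pb v) : Fin m ⊕ Fin m → F)
          else if i = b then (ψ (pa v) : Fin m ⊕ Fin m → F) else O.pr i v := by
        intro v i
        simp only [S, LinearMap.add_apply, LinearMap.sub_apply, LinearMap.id_coe, id_eq,
          LinearMap.comp_apply, Submodule.subtype_apply, LinearEquiv.coe_coe, map_add, map_sub]
        split_ifs with h1 h2
        · subst h1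
          rw [O.self i _ (O.mem i v), O.cross i b hab _ (O.mem b v),
            O.cross i b hab _ (ψ _).2, O.self i _ (ψ.symm _).2]
          abel
        · subst h2
          rw [O.self i _ (O.mem i v), O.cross i a hab.symm _ (O.mem a v),
            O.self i _ (ψ _).2, O.cross i a hab.symm _ (ψ.symm _).2]
          abel
        · rw [O.cross i a h1 _ (O.mem a v), O.cross i b h2 _ (O.mem b v),
            O.cross i b h2 _ (ψ _).2, O.cross i a h1 _ (ψ.symm _).2]
          abel
      have hinv : ∀ v, S (S v) = v := by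
        intro v
        rw [← O.sum (S (S v))]
        conv_rhs => rw [← O.sum v]
        refine Finset.sum_congr rfl fun i _ => ?_
        have hpb : pb (S v) = ψ (pa v) :=
          Subtype.ext (by show O.pr b (S v) = _; rw [hS, if_neg hab.symm, if_pos rfl])
        have hpa : pa (S v) = ψ.symm (pb v) :=
          Subtype.ext (by show O.pr a (S v) = _; rw [hS, if_pos rfl])
        rw [hS, hpa, hpb, LinearEquiv.symm_apply_apply, LinearEquiv.apply_symm_apply]
        split_ifs with h1 h2
        · subst h1; rfl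
        · subst h2; rfl
        · rw [hS, if_neg h1, if_neg h2]
      let h : (Fin m ⊕ Fin m → F) ≃ₗ[F] (Fin m ⊕ Fin m → F) :=
        LinearEquiv.ofInvolutive S hinv
      have hiso : h ∈ iso B := by
        intro u v
        show B (S u) (S v) = B u v
        rw [← O.sum (S u), ← O.sum (S v)]
        conv_rhs => rw [← O.sum u, ← O.sum v]
        rw [bilin_sum O _ _ (fun i => O.mem i _) (fun i => O.mem i _),
          bilin_sum O _ _ (fun i => O.mem i _) (fun i => O.mem i _)]
        refine Finset.sum_nbij' (fun i => Equiv.swap a b i) (fun i => Equiv.swap a b i)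
          (by simp) (by simp) (by simp) (by simp) fun i _ => ?_
        rw [hS, hS]
        split_ifs with h1 h2
        · subst h1
          rw [Equiv.swap_apply_left, ← hψ, LinearEquiv.apply_symm_apply,
            LinearEquiv.apply_symm_apply]
          rfl
        · subst h2
          rw [Equiv.swap_apply_right, hψ]
          rfl
        · rw [Equiv.swap_apply_of_ne_of_ne h1 h2]
      have hSmem : ∀ i, ∀ x ∈ D i, h x ∈ D (Equiv.swap a b i) := by
        intro i x hx
        show S x ∈ _
        rw [← O.sum (S x)]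
        refine Submodule.sum_mem _ fun j _ => ?_
        rcases eq_or_ne j (Equiv.swap a b i) with rfl | hj
        · exact O.mem _ _
        suffices h0 : O.pr j (S x) = 0 by rw [h0]; exact Submodule.zero_mem _
        rw [hS]
        split_ifs with h1 h2
        · have hib : b ≠ i := fun e => hj (by rw [← e, Equiv.swap_apply_right]; exact h1)
          rw [show pb x = 0 from Subtype.ext (O.cross b i hib x hx), map_zero]; rfl
        · have hia : a ≠ i := fun e => hj (by rw [← e, Equiv.swap_apply_left]; exact h2)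
          rw [show pa x = 0 from Subtype.ext (O.cross a i hia x hx), map_zero]; rfl
        · refine O.cross j i (fun e => hj ?_) x hx
          rw [← e, Equiv.swap_apply_of_ne_of_ne h1 h2]
      refine ⟨h, hsub h (hmemN _ (by rw [MulEquiv.apply_symm_apply]; exact hiso) (Equiv.swap a b)
        (fun i x hx => by rw [MulEquiv.apply_symm_apply]; exact hSmem i x hx)), ?_, ?_⟩
      · intro x hx
        simpa using hSmem a x hx
      · intro i hia hib x hx
        show S x = x
        simp [S, show pa x = 0 from Subtype.ext (O.cross a i hia.symm x hx),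
          show pb x = 0 from Subtype.ext (O.cross b i hib.symm x hx),
          O.cross a i hia.symm x hx, O.cross b i hib.symm x hx]
    have hall : L' = iso B := eq_iso_of_decomp O hB hA hfin hnd hq hL'
      (fun i v hv c => hsub _ (htv i v hv c)) hswap hex'
    refine le_antisymm hLG fun x hx => ?_
    have : e x ∈ L' := hall ▸ (hsp x).mp hx
    obtain ⟨y, hy, hyx⟩ := this
    exact e.injective hyx ▸ hy

/-- The case `m ≥ 3`. -/
theorem main {F : Type*} [Field F] [Fintype F] (m : ℕ) (hm : 3 ≤ m) {t : ℕ} (k : ℕ) (D : Fin t → Submodule F (Fin m ⊕ Fin m → F)) (hD : Cfsg.Geo.IsNondegenerateMDecomposition (Cfsg.sympForm m F) k D) (hex : ¬ (k = 2 ∧ Fintype.card F = 2)) : Cfsg.Geo.IsMaximalIn (Cfsg.spGL m F) (Cfsg.Geo.decompositionStabilizer D ⊓ Cfsg.spGL m F) :=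
  main' m (le_trans (by norm_num) hm) k D hD hex

/-- The maximality statement for `m ≥ 5`. -/
theorem isMaximal {F : Type*} [Field F] [Fintype F] (m : ℕ) (hm : 5 ≤ m) {t : ℕ} (k : ℕ) (D : Fin t → Submodule F (Fin m ⊕ Fin m → F)) (hD : Cfsg.Geo.IsNondegenerateMDecomposition (Cfsg.sympForm m F) k D) (hex : ¬ (k = 2 ∧ Fintype.card F = 2)) : Cfsg.Geo.IsMaximalIn (Cfsg.spGL m F) (Cfsg.Geo.decompositionStabilizer D ⊓ Cfsg.spGL m F) :=
  main m (le_trans (by norm_num) hm) k D hD hex

end Cfsg.Lib.Linear.SpGeo.Decomp
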