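import Cfsg.Agent.Lib.Linear.SymplecticMax
import Cfsg.Agent.Lib.Linear.SpFour.ExtCore

/-! Maximality in `Sp_2m`, `m ≥ 2`: ExtField. -/

set_option autoImplicit false
open Cfsg

namespace Cfsg.Lib.Linear.SpGeo.ExtField

open Module Cfsg.Lib.Linear Cfsg.Lib.Linear.ExtField
open scoped Matrix

variable {F : Type*} [Field F] [Fintype F] {m : ℕ}

local notation "M" => Matrix (Fin m ⊕ Fin m) (Fin m ⊕ Fin m) F
local notation "V" => (Fin m ⊕ Fin m → F)

/-- The natural module over a subalgebra of matrices. -/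
@[reducible] def moduleK (K : Subalgebra F M) : Module K V :=
  { smul := fun s v => (s : M) *ᵥ v
    one_smul := fun v => Matrix.one_mulVec v
    mul_smul := fun s t v => (Matrix.mulVec_mulVec v (s : M) (t : M)).symm
    smul_zero := fun s => Matrix.mulVec_zero _
    smul_add := fun s v w => Matrix.mulVec_add _ v w
    add_smul := fun s t v => Matrix.add_mulVec _ _ v
    zero_smul := fun v => Matrix.zero_mulVec v }

omit [Fintype F] in
theorem isField_of (K : Subalgebra F M) (hne : Nonempty (Fin m ⊕ Fin m))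
    (hcomm : ∀ x ∈ K, ∀ y ∈ K, x * y = y * x)
    (hinv : ∀ x ∈ K, x ≠ 0 → ∃ y ∈ K, x * y = 1) : IsField K where
  exists_pair_ne := ⟨0, 1, fun h => by
    obtain ⟨i⟩ := hne
    have := congrFun (congrFun (congrArg Subtype.val h) i) i
    simp at this⟩
  mul_comm x y := Subtype.ext (hcomm _ x.2 _ y.2)
  mul_inv_cancel {x} hx := by
    obtain ⟨y, hy, h⟩ := hinv _ x.2 fun h => hx (Subtype.ext h)
    exact ⟨⟨y, hy⟩, Subtype.ext h⟩

set_option synthInstance.maxHeartbeats 400000 in
set_option maxHeartbeats 1600000 in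
theorem main' (hm : 2 ≤ m) (r : ℕ) (hr : r.Prime)
    (hmr : 4 ≤ m ∨ 3 ≤ r ∨ m = 2 ∧ (2 : F) ≠ 0) (K : Subalgebra F M)
    (hK : Cfsg.Geo.IsFieldSubalgebra r K)
    (hsa : Cfsg.Geo.IsSelfAdjointFor (Cfsg.sympForm m F) K)
    (halt : ∀ k ∈ K, ∀ v : V, Cfsg.sympForm m F (k *ᵥ v) v = 0) :
    Cfsg.Geo.IsMaximalIn (Cfsg.spGL m F) (Cfsg.Geo.subalgebraNormalizer K ⊓ Cfsg.spGL m F) := by
  classical
  have hne : Nonempty (Fin m ⊕ Fin m) := ⟨Sum.inl ⟨0, by omega⟩⟩
  letI : Field K := (isField_of K hne hK.comm hK.inv).toField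
  letI : Module K V := moduleK K
  haveI : IsScalarTower F K V :=
    ⟨fun c k v => show (c • (k : M)) *ᵥ v = c • ((k : M) *ᵥ v) from Matrix.smul_mulVec c _ v⟩
  haveI : Finite K := inferInstance
  haveI : FiniteDimensional F K := inferInstance
  haveI : FiniteDimensional K V := Module.Finite.of_restrictScalars_finite F K _
  have hrK : finrank F K = r := hK.finrank_eq
  have hdim : r * finrank K V = m + m := by
    have h := Module.finrank_mul_finrank F K V
    rwa [hrK, Module.finrank_fintype_fun_eq_card, Fintype.card_sum, Fintype.card_fin] at h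
  have hA := Symp.spB_isAlt m F
  have hB := Symp.spB_nondegenerate m F
  set B := Symp.spB m F
  have hadj : ∀ (c : K) (x y : V), B (c • x) y = B x (c • y) := fun c x y => by
    rw [Symp.spB_apply, Symp.spB_apply]
    exact hsa _ c.2 x y
  have halt' : ∀ (c : K) (x : V), B (c • x) x = 0 := fun c x => by
    rw [Symp.spB_apply]
    exact halt _ c.2 x
  -- the form over the extension
  let φ : V → V → Module.Dual F K := fun x y =>
    (B.flip y) ∘ₗ (LinearMap.toSpanSingleton K V x).restrictScalars F
  have hex : ∀ x y, ∃ a : K, ∀ k : K, Algebra.trace F K (k * a) = B (k • x) y := fun x y => by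
    refine ⟨((Algebra.traceForm F K).toDual (traceForm_nondegenerate F K)).symm (φ x y), fun k => ?_⟩
    have := LinearMap.BilinForm.apply_toDual_symm_apply (hB := traceForm_nondegenerate F K) (φ x y) k
    rw [Algebra.traceForm_apply, mul_comm] at this
    exact this
  choose hf hfs using hex
  let h : LinearMap.BilinForm K V := LinearMap.mk₂ K hf
    (fun x x' y => SympExt.ext_trace (F := F) fun k => by
      simp only [hfs, mul_add, smul_add, map_add, LinearMap.add_apply])
    (fun c x y => SympExt.ext_trace (F := F) fun k => by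
      simp only [smul_eq_mul, ← mul_assoc, hfs, mul_smul])
    (fun x y y' => SympExt.ext_trace (F := F) fun k => by simp only [hfs, mul_add, map_add])
    (fun c x y => SympExt.ext_trace (F := F) fun k => by
      simp only [smul_eq_mul, ← mul_assoc, hfs]
      rw [← hadj, smul_smul, mul_comm c])
  have hhf : ∀ x y, h x y = hf x y := fun x y => rfl
  have hD : SympExt.Data B h := by
    refine ⟨fun v => SympExt.ext_trace (F := F) fun k => ?_, fun x y => ?_, fun x hx => ?_⟩
    · rw [hhf, hfs, halt', mul_zero, map_zero]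
    · rw [hhf, ← one_mul (hf x y), hfs, one_smul]
    · refine hB.1 x fun y => ?_
      rw [show B x y = Algebra.trace F K (1 * hf x y) by rw [hfs, one_smul], ← hhf, hx, mul_zero,
        map_zero]
  set e := Symp.glEquiv (Fin m ⊕ Fin m) F
  have hlin : ∀ (f : V ≃ₗ[K] V), e.symm (f.restrictScalars F) ∈ Cfsg.Geo.subalgebraNormalizer K := by
    intro f
    set g := e.symm (f.restrictScalars F) with hg
    have hact : ∀ x, (g : M) *ᵥ x = f x := fun x => by
      rw [← Symp.glEquiv_apply]
      show e g x = _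
      rw [hg, e.apply_symm_apply]
      rfl
    have hcomm : ∀ k ∈ K, (g : M) * k = k * (g : M) := fun k hk =>
      Matrix.toLin'.injective (LinearMap.ext fun x => by
        rw [Matrix.toLin'_apply, Matrix.toLin'_apply, ← Matrix.mulVec_mulVec,
          ← Matrix.mulVec_mulVec, hact, hact]
        exact f.map_smul ⟨k, hk⟩ x)
    intro k
    refine ⟨fun hk => ?_, fun hk => ?_⟩
    · rw [hcomm k hk, mul_assoc, ← Units.val_mul, mul_inv_cancel, Units.val_one, mul_one]
      exact hk
    · have h := hcomm _ hk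
      have e1 : k = ((g⁻¹ : GL (Fin m ⊕ Fin m) F) : M) *
          ((g : M) * ((g : M) * k * ((g⁻¹ : GL (Fin m ⊕ Fin m) F) : M))) := by
        rw [h, mul_assoc _ ((g⁻¹ : GL (Fin m ⊕ Fin m) F) : M) (g : M), ← Units.val_mul g⁻¹ g,
          inv_mul_cancel, Units.val_one, mul_one, ← mul_assoc, ← Units.val_mul, inv_mul_cancel,
          Units.val_one, one_mul]
      rw [e1, ← mul_assoc, ← Units.val_mul, inv_mul_cancel, Units.val_one, one_mul]
      exact hk
  refine ⟨lt_of_le_of_ne inf_le_right fun heq => ?_, fun L hL hL' => ?_⟩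
  · -- a transvection that moves a line
    obtain ⟨β, hβ, hβ0⟩ := (Submodule.ne_bot_iff _).1
      (show LinearMap.ker (Algebra.trace F K) ≠ ⊥ from fun e => by
        have := SympExt.finrank_trace_ker (F := F) (K := K)
        rw [e, finrank_bot, hrK] at this
        have := hr.two_le
        omega)
    rw [LinearMap.mem_ker] at hβ
    obtain ⟨k, hk⟩ : ∃ k, Algebra.trace F K (k * β) ≠ 0 := by
      by_contra hc
      push Not at hc
      exact hβ0 (SympExt.ext_trace (F := F) fun k => by rw [hc, mul_zero, map_zero])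
    obtain ⟨x, hx⟩ := exists_ne (0 : V)
    obtain ⟨y, hy⟩ : ∃ y, h x y ≠ 0 := by
      by_contra hc
      push Not at hc
      exact hx (hD.sep x hc)
    set v := (h x y)⁻¹ • y
    set z := β • x
    have hzv : h z v = β := by
      simp only [z, v, map_smul, LinearMap.smul_apply, smul_eq_mul]
      rw [mul_left_comm, inv_mul_cancel₀ hy, mul_one]
    have hB1 : B z v = 0 := by rw [hD.tr, hzv, hβ]
    have hB2 : B (k • z) v ≠ 0 := by rwa [hD.smul_left, hzv]
    set g := e.symm (Symp.tv hA v 1)
    have hg : g ∈ Cfsg.spGL m F := by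
      rw [Symp.spGL_eq_comap, Subgroup.mem_comap]
      show e g ∈ _
      rw [e.apply_symm_apply]
      exact Symp.tv_mem_iso hA v 1
    rw [← heq] at hg
    have hgact : ∀ w, (g : M) *ᵥ w = w + B w v • v := fun w => by
      rw [← Symp.glEquiv_apply]
      show e g w = _
      rw [e.apply_symm_apply, Symp.tv_apply, one_mul]
    let a : K := ⟨_, (hg.1 k).1 k.2⟩
    have ha : (g : M) *ᵥ (k • z) = a • ((g : M) *ᵥ z) := by
      show (g : M) *ᵥ ((k : M) *ᵥ z) =
        ((g : M) * (k : M) * ((g⁻¹ : GL (Fin m ⊕ Fin m) F) : M)) *ᵥ ((g : M) *ᵥ z)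
      rw [Matrix.mulVec_mulVec, Matrix.mulVec_mulVec, mul_assoc _ _ (g : M), ← Units.val_mul,
        inv_mul_cancel, Units.val_one, mul_one]
    rw [hgact, hgact, hB1, zero_smul, add_zero] at ha
    rcases eq_or_ne k a with hka | hka
    · rw [← hka] at ha
      rcases smul_eq_zero.1 (add_eq_left.1 ha) with h0 | h0
      · exact hB2 h0
      · exact hB2 (by rw [h0, map_zero])
    · have h1 : z = (k - a)⁻¹ • (-(B (k • z) v • v)) := by
        rw [eq_inv_smul_iff₀ (sub_ne_zero.2 hka), sub_smul, ← ha]
        abel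
      have h2 : h z v = 0 := by
        rw [h1, ← algebraMap_smul K (B (k • z) v) v]
        simp only [map_smul, map_neg, LinearMap.smul_apply, LinearMap.neg_apply, hD.alt, smul_zero,
          neg_zero]
      exact hβ0 (hzv.symm.trans h2)
  · by_cases hnot : L ≤ Cfsg.Geo.subalgebraNormalizer K
    · exact Or.inl (le_antisymm (le_inf hnot hL') hL)
    right
    refine le_antisymm hL' ?_
    have hG : SympExt.Over B h (L.map e.toMonoidHom) := by
      refine ⟨?_, fun v a => ?_, ?_⟩
      · rintro _ ⟨g, hg, rfl⟩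
        have := hL' hg
        rw [Symp.spGL_eq_comap] at this
        exact this
      · let b : V →ₗ[K] V := (a • h v).smulRight v
        have hbb : ∀ x, b (b x) = 0 := fun x => by simp [b, hD.alt]
        let f : V ≃ₗ[K] V := LinearEquiv.ofLinear (LinearMap.id + b)
          (LinearMap.id - b) (LinearMap.ext fun x => by simp [map_sub, hbb])
          (LinearMap.ext fun x => by simp [map_add, hbb])
        have hf' : ∀ x, f x = x + (a * h v x) • v := fun x => rfl
        refine ⟨f.restrictScalars F, ⟨e.symm (f.restrictScalars F), hL ⟨hlin f, ?_⟩,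
          e.apply_symm_apply _⟩, fun x => rfl⟩
        show e.symm (f.restrictScalars F) ∈ Cfsg.spGL m F
        rw [Symp.spGL_eq_comap, Subgroup.mem_comap]
        show e (e.symm _) ∈ _
        rw [e.apply_symm_apply]
        intro x y
        show B (f x) (f y) = B x y
        rw [hD.tr, hD.tr, hf', hf']
        congr 1
        simp only [map_add, map_smul, LinearMap.add_apply, LinearMap.smul_apply, smul_eq_mul,
          hD.alt, hD.skew v x]
        ring
      · obtain ⟨g, hg, hgN⟩ := SetLike.not_le_iff_exists.1 hnot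
        refine ⟨e g, ⟨g, hg, rfl⟩, ?_⟩
        by_contra hc
        push Not at hc
        refine hgN ?_
        have hin : ∀ k ∈ K, (g : M) * k * ((g⁻¹ : GL (Fin m ⊕ Fin m) F) : M) ∈ K := by
          intro k hk
          set c : M := (g : M) * k * ((g⁻¹ : GL (Fin m ⊕ Fin m) F) : M)
          have hline : ∀ w : V, ∃ a : K, c *ᵥ w = a • w := by
            intro w
            obtain ⟨a, ha⟩ := Submodule.mem_span_singleton.1
              (hc (((g⁻¹ : GL (Fin m ⊕ Fin m) F) : M) *ᵥ w) ⟨k, hk⟩)
            refine ⟨a, ?_⟩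
            have e1 : e g (((g⁻¹ : GL (Fin m ⊕ Fin m) F) : M) *ᵥ w) = w := by
              rw [Symp.glEquiv_apply, Matrix.mulVec_mulVec, ← Units.val_mul, mul_inv_cancel,
                Units.val_one, Matrix.one_mulVec]
            rw [e1, Symp.glEquiv_apply] at ha
            rw [ha]
            show c *ᵥ w = (g : M) *ᵥ (k *ᵥ (((g⁻¹ : GL (Fin m ⊕ Fin m) F) : M) *ᵥ w))
            rw [Matrix.mulVec_mulVec, Matrix.mulVec_mulVec]
          obtain ⟨w₁, hw₁⟩ : ∃ w₁ : V, w₁ ≠ 0 := exists_ne 0
          obtain ⟨a₁, ha₁⟩ := hline w₁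
          have hout : ∀ w, w ∉ K ∙ w₁ → c *ᵥ w = a₁ • w := by
            intro w hw
            obtain ⟨a, ha⟩ := hline w
            obtain ⟨b, hb⟩ := hline (w₁ + w)
            rw [Matrix.mulVec_add, ha₁, ha, smul_add, ← sub_eq_zero,
              add_sub_add_comm, ← sub_smul, ← sub_smul] at hb
            have h2 : a - b = 0 := by
              by_contra h
              refine hw (Submodule.mem_span_singleton.2 ⟨-((a - b)⁻¹ * (a₁ - b)), ?_⟩)
              rw [neg_smul, mul_smul, eq_neg_of_add_eq_zero_left hb, smul_neg, neg_neg, smul_smul,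
                inv_mul_cancel₀ h, one_smul]
            rw [h2, zero_smul, add_zero] at hb
            have h1 := (smul_eq_zero.1 hb).resolve_right hw₁
            rw [ha, sub_eq_zero.1 h1, sub_eq_zero.1 h2]
          have hall : ∀ w, c *ᵥ w = (a₁ : M) *ᵥ w := by
            intro w
            show c *ᵥ w = a₁ • w
            by_cases hw : w ∈ K ∙ w₁
            · obtain ⟨w₂, hw₂⟩ : ∃ w₂, w₂ ∉ K ∙ w₁ := by
                by_contra hcon
                push Not at hcon
                refine hw₁ (hD.sep w₁ fun y => ?_)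
                obtain ⟨t, rfl⟩ := Submodule.mem_span_singleton.1 (hcon y)
                rw [map_smul, hD.alt, smul_zero]
              have hsum : w + w₂ ∉ K ∙ w₁ := fun h => hw₂ (by simpa using Submodule.sub_mem _ h hw)
              have := hout _ hsum
              rwa [Matrix.mulVec_add, hout _ hw₂, smul_add, add_left_inj] at this
            · exact hout w hw
          have : c = (a₁ : M) := Matrix.toLin'.injective (LinearMap.ext fun w => by
            rw [Matrix.toLin'_apply, Matrix.toLin'_apply, hall])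
          exact this ▸ a₁.2
        intro k
        refine ⟨hin k, fun hk => ?_⟩
        let Φ : K → K := fun a => ⟨_, hin a a.2⟩
        have hΦ : Function.Injective Φ := fun a b h => Subtype.ext (by
          have h' : (g : M) * (a : M) * ((g⁻¹ : GL (Fin m ⊕ Fin m) F) : M) =
            (g : M) * (b : M) * ((g⁻¹ : GL (Fin m ⊕ Fin m) F) : M) := congrArg Subtype.val h
          exact (Units.mul_right_inj g).1 ((Units.mul_left_inj g⁻¹).1 h'))
        obtain ⟨a, ha⟩ := Finite.surjective_of_injective hΦ ⟨_, hk⟩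
        have h' : (g : M) * (a : M) * ((g⁻¹ : GL (Fin m ⊕ Fin m) F) : M) =
          (g : M) * k * ((g⁻¹ : GL (Fin m ⊕ Fin m) F) : M) := congrArg Subtype.val ha
        have : (a : M) = k := (Units.mul_right_inj g).1 ((Units.mul_left_inj g⁻¹).1 h')
        exact this ▸ a.2
    have htv : ∀ v a, InG (L.map e.toMonoidHom) (SympExt.qMap B a v) := by
      rcases Nat.lt_or_ge r 3 with h3 | h3
      · obtain rfl : r = 2 := by have := hr.two_le; omega
        rcases hmr with h4 | h4 | ⟨h4, h20⟩
        · exact SympExt.tv_mem hD hG (hrK ▸ hr) (Or.inr (by omega))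
        · omega
        · exact SympExt.tv_mem_two hD hG h20 hrK (by omega)
      · exact SympExt.tv_mem hD hG (hrK ▸ hr) (Or.inl (hrK ▸ h3))
    intro g hg
    rw [Symp.spGL_eq_comap, Subgroup.mem_comap] at hg
    have hle : Symp.iso B ≤ L.map e.toMonoidHom := by
      rw [Symp.iso_eq_T hB hA, Symp.T, Subgroup.closure_le]
      rintro _ ⟨v, -, c, rfl⟩
      obtain ⟨t, ht, hta⟩ := htv v (-c)
      have : t = Symp.tv hA v c := LinearEquiv.ext fun x => by
        rw [hta, SympExt.qMap_apply, Symp.tv_apply, ← hA.neg_eq x v]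
        ring_nf
      exact this ▸ ht
    obtain ⟨g', hg', hgg'⟩ := hle hg
    exact e.injective hgg' ▸ hg'


/-- The maximality statement for `m ≥ 3`. -/
theorem main (hm : 3 ≤ m) (r : ℕ) (hr : r.Prime) (hmr : 4 ≤ m ∨ 3 ≤ r) (K : Subalgebra F M)
    (hK : Cfsg.Geo.IsFieldSubalgebra r K)
    (hsa : Cfsg.Geo.IsSelfAdjointFor (Cfsg.sympForm m F) K)
    (halt : ∀ k ∈ K, ∀ v : V, Cfsg.sympForm m F (k *ᵥ v) v = 0) :
    Cfsg.Geo.IsMaximalIn (Cfsg.spGL m F) (Cfsg.Geo.subalgebraNormalizer K ⊓ Cfsg.spGL m F) :=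
  main' (by omega) r hr (hmr.elim Or.inl fun h => Or.inr (Or.inl h)) K hK hsa halt

/-- The maximality statement for `m ≥ 5`. -/
theorem isMaximal {F : Type*} [Field F] [Fintype F] (m : ℕ) (hm : 5 ≤ m) (r : ℕ) (hr : r.Prime) (K : Subalgebra F (Matrix (Fin m ⊕ Fin m) (Fin m ⊕ Fin m) F)) (hK : Cfsg.Geo.IsFieldSubalgebra r K) (hsa : Cfsg.Geo.IsSelfAdjointFor (Cfsg.sympForm m F) K) (halt : ∀ k ∈ K, ∀ v : (Fin m ⊕ Fin m → F), Cfsg.sympForm m F (Matrix.mulVec k v) v = 0) : Cfsg.Geo.IsMaximalIn (Cfsg.spGL m F) (Cfsg.Geo.subalgebraNormalizer K ⊓ Cfsg.spGL m F) := by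
  exact main (le_trans (by norm_num) hm) r hr (Or.inl (le_trans (by norm_num) hm)) K hK hsa halt

end Cfsg.Lib.Linear.SpGeo.ExtField
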