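import Cfsg.Agent.Lib.Linear.SymplecticMax

/-! Maximality in `Sp_2m`, `m ≥ 3`: Nondeg. -/

set_option autoImplicit false
open Cfsg

namespace Cfsg.Lib.Linear.SpGeo.Nondeg

/-- The maximality statement for `m ≥ 3`. -/
theorem main {F : Type*} [Field F] [Fintype F] (m : ℕ) (hm : 3 ≤ m) (W : Submodule F (Fin m ⊕ Fin m → F)) (hW0 : W ≠ ⊥) (hW : Cfsg.Geo.IsNondegenerateOn (Cfsg.sympForm m F) W) (hdim : Module.finrank F W < m) : Cfsg.Geo.IsMaximalIn (Cfsg.spGL m F) (Cfsg.Geo.subspaceStabilizer W ⊓ Cfsg.spGL m F) := by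
  have hd : 2 * Module.finrank F W < Module.finrank F (Fin m ⊕ Fin m → F) := by
    rw [Cfsg.Lib.Linear.Symp.finrank_space]; omega
  have h1 : W ≠ ⊤ := by
    rintro rfl
    rw [finrank_top] at hd
    omega
  have hW' : W ⊓ (Cfsg.Lib.Linear.Symp.spB m F).orthogonal W = ⊥ := by
    rw [eq_bot_iff]
    rintro w ⟨hw, hwp⟩
    by_contra h0
    obtain ⟨x, hx, hxw⟩ := (hW w hw (by simpa using h0)).1
    exact hxw (by rw [← Cfsg.Lib.Linear.Symp.spB_apply]; exact hwp x hx)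
  exact Cfsg.Lib.Linear.Symp.isMaximalIn_spGL W hW0 h1 fun L h2 h3 =>
    Cfsg.Lib.Linear.Symp.maximal_nondegenerate (Cfsg.Lib.Linear.Symp.spB_nondegenerate m F)
      (Cfsg.Lib.Linear.Symp.spB_isAlt m F) hW' hd h2 h3

/-- The maximality statement for `m ≥ 5`. -/
theorem isMaximal {F : Type*} [Field F] [Fintype F] (m : ℕ) (hm : 5 ≤ m) (W : Submodule F (Fin m ⊕ Fin m → F)) (hW0 : W ≠ ⊥) (hW : Cfsg.Geo.IsNondegenerateOn (Cfsg.sympForm m F) W) (hdim : Module.finrank F W < m) : Cfsg.Geo.IsMaximalIn (Cfsg.spGL m F) (Cfsg.Geo.subspaceStabilizer W ⊓ Cfsg.spGL m F) :=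
  main m (le_trans (by norm_num) hm) W hW0 hW hdim

end Cfsg.Lib.Linear.SpGeo.Nondeg
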