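import Cfsg.Agent.Lib.Linear.SympOverfield
import Cfsg.Agent.Lib.Linear.OverfieldAlg
import Cfsg.Agent.Lib.Linear.OrthOdd
import Cfsg.Agent.Lib.Linear.SympOverfieldSix
import Cfsg.Agent.Lib.Linear.SpFour.QuadFour

/-! Maximality in `Sp_2m`, `m = 2`, `m = 3` or `m ≥ 5`: Overfield. -/

set_option autoImplicit false
open Cfsg

namespace Cfsg.Lib.Linear.SpGeo.Overfield

open scoped Matrix
open Cfsg.Lib.Linear Cfsg.Lib.Linear.SympQ2 Module

/-- The maximality statement for `m = 2` (`|F| ≥ 5`), `m = 3` or `m ≥ 5`. -/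
theorem main' {F : Type*} [Field F] [Fintype F] (m : ℕ)
    (hm : (m = 2 ∧ 5 ≤ Fintype.card F) ∨ m = 3 ∨ 5 ≤ m) (hodd : Odd (Fintype.card F)) (K : Subalgebra F (Matrix (Fin m ⊕ Fin m) (Fin m ⊕ Fin m) F)) (hK : Cfsg.Geo.IsFieldSubalgebra 2 K) (hac : Cfsg.Geo.IsAdjointClosedFor (Cfsg.sympForm m F) K) (hnsa : ¬ Cfsg.Geo.IsSelfAdjointFor (Cfsg.sympForm m F) K) : Cfsg.Geo.IsMaximalIn (Cfsg.spGL m F) (Cfsg.Geo.subalgebraNormalizer K ⊓ Cfsg.spGL m F) := by
  classical
  obtain ⟨T, t, N₀, hT, hmem, hsq₀, -, hfree₀⟩ := exists_quad_gen K hK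
  have h2 : (2 : F) ≠ 0 := Orth.two_ne_zero_of_odd_card hodd
  set B := Symp.spB m F with hBdef
  have hB : B.Nondegenerate := Symp.spB_nondegenerate m F
  have hA : B.IsAlt := Symp.spB_isAlt m F
  -- normalise the trace
  set T₀ := T - (t / 2) • 1 with hT₀
  set N := N₀ - t / 2 * (t / 2) with hNdef
  have hT₀K : T₀ ∈ K := K.sub_mem hT (K.smul_mem K.one_mem _)
  have hsq : T₀ * T₀ = -(N • 1) := by
    simp only [hT₀, sub_mul, mul_sub, Matrix.smul_mul, Matrix.mul_smul, one_mul, mul_one, hsq₀]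
    match_scalars <;> (try simp only [hNdef]) <;> field_simp <;> ring
  have hfree : ∀ v, v ≠ 0 → ∀ c : F, T₀ *ᵥ v ≠ c • v := fun v hv c e => hfree₀ v hv (c + t / 2) (by
    rw [hT₀, Matrix.sub_mulVec, Matrix.smul_mulVec, Matrix.one_mulVec, sub_eq_iff_eq_add] at e
    rw [e, add_smul])
  have hmem₀ : ∀ k, k ∈ K ↔ ∃ a b : F, k = a • 1 + b • T₀ := fun k => by
    rw [hmem]
    constructor
    · rintro ⟨a, b, rfl⟩
      exact ⟨a + b * (t / 2), b, by rw [hT₀]; module⟩
    · rintro ⟨a, b, rfl⟩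
      exact ⟨a - b * (t / 2), b, by rw [hT₀]; module⟩
  set θ := Matrix.mulVecLin T₀
  have hθθ : ∀ v, θ (θ v) = -(N • v) := fun v => by
    show T₀ *ᵥ (T₀ *ᵥ v) = _
    rw [Matrix.mulVec_mulVec, hsq, Matrix.neg_mulVec, Matrix.smul_mulVec, Matrix.one_mulVec]
  obtain ⟨i0⟩ : Nonempty (Fin m ⊕ Fin m) := ⟨Sum.inl ⟨0, by omega⟩⟩
  set e0 : Fin m ⊕ Fin m → F := Pi.single i0 1
  have he0 : e0 ≠ 0 := by simp [e0]
  obtain ⟨T', hT', hadj⟩ := hac T₀ hT₀K
  obtain ⟨a', b', rfl⟩ := (hmem₀ T').mp hT'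
  have hadj' : ∀ u v, B (θ u) v = a' * B u v + b' * B u (θ v) := fun u v => by
    have h := hadj u v
    rw [← Symp.spB_apply, ← Symp.spB_apply, Matrix.add_mulVec, Matrix.smul_mulVec,
      Matrix.smul_mulVec, Matrix.one_mulVec, map_add, map_smul, map_smul] at h
    exact h
  have hsw : ∀ u v, B v u = -B u v := fun u v => (LinearMap.IsAlt.neg hA u v).symm
  have key2 : ∀ u v, a' * (1 + b') * B u v + (b' * b' - 1) * B u (θ v) = 0 := fun u v => by
    have h1 := hadj' u v
    have h2 := hadj' v u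
    rw [hsw u (θ v), hsw u v, hsw (θ u) v] at h2
    linear_combination h2 - b' * h1
  have hzero : ∀ p q : F, (∀ u, p * B u e0 + q * B u (θ e0) = 0) → p = 0 ∧ q = 0 := by
    intro p q h
    have hz : p • e0 + q • θ e0 = 0 := hB.2 _ fun u => by
      rw [map_add, map_smul, map_smul]; exact h u
    by_cases hq : q = 0
    · rw [hq, zero_smul, add_zero, smul_eq_zero] at hz
      exact ⟨hz.resolve_right he0, hq⟩
    · exfalso
      refine hfree e0 he0 (-(q⁻¹ * p)) ?_
      show θ e0 = _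
      rw [neg_smul, ← smul_smul, ← smul_neg, neg_eq_of_add_eq_zero_right hz, smul_smul,
        inv_mul_cancel₀ hq, one_smul]
  obtain ⟨ha1, hb2⟩ := hzero _ _ fun u => key2 u e0
  have hb' : b' = -1 := by
    rcases mul_eq_zero.mp (show (b' + 1) * (b' - 1) = 0 by linear_combination hb2) with h | h
    · linear_combination h
    · exfalso
      have hb1 : b' = 1 := by linear_combination h
      have ha0 : a' = 0 := by
        rw [hb1, show (1 : F) + 1 = 2 by norm_num] at ha1
        exact (mul_eq_zero.mp ha1).resolve_right h2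
      refine hnsa fun k hk u v => ?_
      obtain ⟨p, q, rfl⟩ := (hmem₀ k).mp hk
      have h1 := hadj' u v
      rw [ha0, hb1, zero_mul, zero_add, one_mul] at h1
      rw [← Symp.spB_apply, ← Symp.spB_apply]
      simp only [Matrix.add_mulVec, Matrix.smul_mulVec, Matrix.one_mulVec, map_add, map_smul,
        LinearMap.add_apply, LinearMap.smul_apply]
      show _ + q • B (θ u) v = _ + q • B u (θ v)
      rw [h1]
  subst hb'
  have ha' : a' = 0 := by
    by_contra hne
    have key3 : ∀ u, a' * a' * B u e0 + (-2 * a') * B u (θ e0) = 0 := fun u => by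
      have h1 := hadj' (θ u) e0
      have h2 := hadj' u (θ e0)
      rw [hθθ] at h2
      rw [hθθ, h2, hadj' u e0] at h1
      simp only [map_neg, map_smul, LinearMap.neg_apply, LinearMap.smul_apply, smul_eq_mul] at h1
      linear_combination -h1
    exact hne (mul_self_eq_zero.mp (hzero _ _ key3).1)
  have hskew : ∀ u v, B (θ u) v = -B u (θ v) := fun u v => by rw [hadj', ha']; ring
  have hN0 : N ≠ 0 := fun h0 => by
    refine hfree (θ e0) (fun h => hfree e0 he0 0 (by rw [zero_smul]; exact h)) 0 ?_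
    show θ (θ e0) = _
    rw [hθθ, h0]; simp
  obtain ⟨⟨e, he0', hQe⟩, hmain⟩ :
      (∃ e, e ≠ 0 ∧ sQ B θ e = 0) ∧
      (∀ H, H ≤ Symp.iso B → (∀ f ∈ Symp.iso B, (∀ z, θ (f z) = f (θ z)) → f ∈ H) →
        (∀ g ∈ H, ∃ a b : F, ∀ w, g.symm (θ (g w)) = a • w + b • θ w) ∨ H = Symp.iso B) := by
    have hiso : ∀ u c, uT hA θ N u c ∈ Symp.iso B := fun u c =>
      mul_mem (Symp.tv_mem_iso _ _ _) (Symp.tv_mem_iso _ _ _)
    rcases hm with ⟨rfl, h5⟩ | rfl | hm
    · have D : SpFour.Quad.Op4 B θ N :=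
        ⟨hB, hA, by simp, h2, hθθ, hskew, hN0, hfree⟩
      obtain ⟨e, f, he⟩ := D.exists_hyp
      obtain ⟨μ, hμ0, hμ⟩ := SpFour.exists_mu h5
      exact ⟨⟨e, SpFour.Quad.Hyp4.ne_zero he, he.singE⟩,
        fun H hH hn => D.normalises_or_top hH hn hμ0 hμ⟩
    · have D : Six.Op B θ N :=
        ⟨hB, hA, by simp, h2, hθθ, hskew, hN0, hfree⟩
      exact ⟨D.exists_sing, fun H hH hn => Six.normalises_or_top D hH
        fun u hu c => hn _ (hiso u c) (D.uT_comm hu c)⟩
    · have D : SkewOp B θ N :=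
        ⟨hB, hA, by simp; omega, h2, hθθ, hskew, hN0, hfree⟩
      obtain ⟨e, f0, he⟩ := Orth.exists_hyp' D.quadOp.space D.quadOp.space.ndeg_top
        (by rw [finrank_top, finrank_fintype_fun_eq_card, Fintype.card_sum, Fintype.card_fin]; omega)
      exact ⟨⟨e, fun h => by simpa [h] using he.pair, he.singE⟩,
        fun H hH hn => D.normalises_or_top hH fun u hu c => hn _ (hiso u c) (D.uT_comm hu c)⟩
  set E := (Symp.glEquiv (Fin m ⊕ Fin m) F).toMonoidHom with hE
  have hsurj : Function.Surjective E := (Symp.glEquiv (Fin m ⊕ Fin m) F).surjective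
  rw [Symp.spGL_eq_comap]
  set L := Cfsg.Geo.subalgebraNormalizer K ⊓ (Symp.iso B).comap E with hL
  -- an element of the normaliser in terms of `θ`
  have norm_of : ∀ g : GL (Fin m ⊕ Fin m) F,
      (∀ k ∈ K, g.val * k * ((g⁻¹ : GL (Fin m ⊕ Fin m) F) : Matrix _ _ F) ∈ K) →
      (∀ k ∈ K, ((g⁻¹ : GL (Fin m ⊕ Fin m) F) : Matrix _ _ F) * k * g.val ∈ K) →
      g ∈ Cfsg.Geo.subalgebraNormalizer K := by
    intro g h1 h2 x
    refine ⟨h1 x, fun hx => ?_⟩
    have := h2 _ hx
    rwa [← mul_assoc, ← mul_assoc, ← Units.val_mul, inv_mul_cancel, Units.val_one,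
      one_mul, mul_assoc, ← Units.val_mul, inv_mul_cancel, Units.val_one, mul_one] at this
  refine ⟨lt_of_le_of_ne inf_le_right fun heq => ?_, fun M hLM hMK => ?_⟩
  · obtain ⟨g, hg⟩ := hsurj (Symp.tv hA e (1 : F))
    have hgL : g ∈ L := by
      rw [heq, Subgroup.mem_comap, hg]
      exact Symp.tv_mem_iso hA e 1
    have hact : ∀ z, g.val *ᵥ z = z + B z e • e := fun z => by
      rw [← Symp.glEquiv_apply]
      show E g z = _
      rw [hg, Symp.tv_apply, one_mul]
    obtain ⟨a, b, hab⟩ := (hmem₀ _).mp ((hgL.1 T₀).mp hT₀K)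
    have hgz : ∀ z, g.val *ᵥ θ z = a • (g.val *ᵥ z) + b • θ (g.val *ᵥ z) := fun z => by
      have h := congrArg (· *ᵥ (g.val *ᵥ z)) hab
      simp only [← Matrix.mulVec_mulVec, Matrix.add_mulVec, Matrix.smul_mulVec,
        Matrix.one_mulVec] at h
      rw [Orth.inv_act] at h
      exact h
    have hze : B e e = 0 := hA.self_eq_zero e
    have hθze : B (θ e) e = 0 := by rw [hsw, neg_eq_zero]; exact hQe
    have e1 := hgz e
    rw [hact, hact, hze, hθze, zero_smul, add_zero, add_zero] at e1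
    have hb1 : b = 1 := by
      by_contra hb
      refine hfree e he0' (a / (1 - b)) ?_
      show θ e = _
      have e' : (1 - b) • θ e = a • e := by linear_combination (norm := module) e1
      rw [div_eq_inv_mul, ← smul_smul, ← e', smul_smul,
        inv_mul_cancel₀ (sub_ne_zero.mpr fun h => hb h.symm), one_smul]
    subst hb1
    have ha0 : a = 0 := by
      refine (smul_eq_zero.mp ?_).resolve_right he0'
      linear_combination (norm := module) -e1
    subst ha0
    obtain ⟨f, hf⟩ : ∃ f, B f e = 1 := by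
      by_contra h
      push Not at h
      refine he0' (hB.2 e fun u => ?_)
      by_contra hu
      exact h ((B u e)⁻¹ • u) (by simp [hu])
    have e2 := hgz f
    rw [hact, hact, hf, one_smul, zero_smul, zero_add, one_smul, map_add] at e2
    refine hfree e he0' (B (θ f) e) ?_
    show θ e = _
    exact (add_left_cancel e2).symm
  · have hH : M.map E ≤ Symp.iso B := by
      rintro _ ⟨g, hg, rfl⟩; exact hMK hg
    have hnormH : ∀ f ∈ Symp.iso B, (∀ z, θ (f z) = f (θ z)) → f ∈ M.map E := by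
      intro f hfi hfc
      obtain ⟨g, hg⟩ := hsurj f
      refine ⟨g, hLM ⟨?_, ?_⟩, hg⟩
      · have hact : ∀ z, g.val *ᵥ z = f z := fun z => by
          rw [← Symp.glEquiv_apply, ← hg]; rfl
        have hc : g.val * T₀ = T₀ * g.val := by
          refine Orth.mat_ext fun z => ?_
          rw [← Matrix.mulVec_mulVec, ← Matrix.mulVec_mulVec, hact, hact]
          exact (hfc z).symm
        have hfix : ∀ x ∈ K, g.val * x = x * g.val := by
          intro x hx
          obtain ⟨p, q, rfl⟩ := (hmem₀ x).mp hx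
          simp only [mul_add, add_mul, Matrix.mul_smul, Matrix.smul_mul, mul_one, one_mul, hc]
        refine norm_of g (fun x hx => ?_) fun x hx => ?_
        · rw [hfix x hx, mul_assoc, ← Units.val_mul, mul_inv_cancel, Units.val_one, mul_one]
          exact hx
        · rw [mul_assoc, ← hfix x hx, ← mul_assoc, ← Units.val_mul, inv_mul_cancel, Units.val_one,
            one_mul]
          exact hx
      · show E g ∈ Symp.iso B
        rw [hg]
        exact hfi
    rcases hmain _ hH hnormH with h | h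
    · refine Or.inl (le_antisymm (fun g hg => ⟨?_, hMK hg⟩) hLM)
      have conj : ∀ g ∈ M, ∀ k ∈ K,
          ((g⁻¹ : GL (Fin m ⊕ Fin m) F) : Matrix _ _ F) * k * g.val ∈ K := by
        intro g hg k hk
        obtain ⟨a, b, hab⟩ := h (E g) (Subgroup.mem_map_of_mem _ hg)
        have hT : ((g⁻¹ : GL (Fin m ⊕ Fin m) F) : Matrix _ _ F) * T₀ * g.val =
            a • 1 + b • T₀ := by
          refine Orth.mat_ext fun w => ?_
          rw [Matrix.add_mulVec, Matrix.smul_mulVec, Matrix.smul_mulVec, Matrix.one_mulVec,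
            ← Matrix.mulVec_mulVec, ← Matrix.mulVec_mulVec]
          have hh := hab w
          rw [LinearEquiv.symm_apply_eq] at hh
          refine Orth.act_injective g ?_
          show g.val *ᵥ _ = g.val *ᵥ _
          rw [Orth.act_inv]
          exact hh
        obtain ⟨p, q, rfl⟩ := (hmem₀ k).mp hk
        simp only [mul_add, add_mul, Matrix.mul_smul, Matrix.smul_mul, mul_one, ← Units.val_mul,
          inv_mul_cancel, Units.val_one, hT]
        exact K.add_mem (K.smul_mem K.one_mem p)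
          (K.smul_mem (K.add_mem (K.smul_mem K.one_mem a) (K.smul_mem hT₀K b)) q)
      refine norm_of g (fun x hx => ?_) (conj g hg)
      have := conj g⁻¹ (inv_mem hg) x hx
      rwa [inv_inv] at this
    · refine Or.inr ?_
      rw [← h]
      exact (Subgroup.comap_map_eq_self_of_injective
        (Symp.glEquiv (Fin m ⊕ Fin m) F).injective M).symm

/-- The maximality statement for `m = 3` or `m ≥ 5`. -/
theorem main {F : Type*} [Field F] [Fintype F] (m : ℕ) (hm : m = 3 ∨ 5 ≤ m) (hodd : Odd (Fintype.card F)) (K : Subalgebra F (Matrix (Fin m ⊕ Fin m) (Fin m ⊕ Fin m) F)) (hK : Cfsg.Geo.IsFieldSubalgebra 2 K) (hac : Cfsg.Geo.IsAdjointClosedFor (Cfsg.sympForm m F) K) (hnsa : ¬ Cfsg.Geo.IsSelfAdjointFor (Cfsg.sympForm m F) K) : Cfsg.Geo.IsMaximalIn (Cfsg.spGL m F) (Cfsg.Geo.subalgebraNormalizer K ⊓ Cfsg.spGL m F) :=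
  main' m (Or.inr hm) hodd K hK hac hnsa

/-- The maximality statement for `m ≥ 5`. -/
theorem isMaximal {F : Type*} [Field F] [Fintype F] (m : ℕ) (hm : 5 ≤ m) (hodd : Odd (Fintype.card F)) (K : Subalgebra F (Matrix (Fin m ⊕ Fin m) (Fin m ⊕ Fin m) F)) (hK : Cfsg.Geo.IsFieldSubalgebra 2 K) (hac : Cfsg.Geo.IsAdjointClosedFor (Cfsg.sympForm m F) K) (hnsa : ¬ Cfsg.Geo.IsSelfAdjointFor (Cfsg.sympForm m F) K) : Cfsg.Geo.IsMaximalIn (Cfsg.spGL m F) (Cfsg.Geo.subalgebraNormalizer K ⊓ Cfsg.spGL m F) :=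
  main m (Or.inr hm) hodd K hK hac hnsa

end Cfsg.Lib.Linear.SpGeo.Overfield
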