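import Cfsg.Agent.Lib.Linear.SymplecticMax

/-! Maximality in `Sp_2m`, `m ≥ 3`: Quadratic. -/

set_option autoImplicit false
open Cfsg

namespace Cfsg.Lib.Linear.SpGeo.Quadratic

open Cfsg.Lib.Linear.Symp

section Core

variable {F V : Type*} [Field F] [Finite F] [AddCommGroup V] [Module F V] [FiniteDimensional F V]
  {B : LinearMap.BilinForm F V} {Q : V → F}

/-- In characteristic two every element of a finite field is a square. -/
theorem exists_sq (h2 : (2 : F) = 0) (x : F) : ∃ a : F, a * a = x := by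
  have hinj : Function.Injective (fun a : F => a * a) := by
    intro a b hab
    simp only at hab
    have h : (a - b) * (a - b) = 0 := by linear_combination hab + (b * b - a * b) * h2
    exact sub_eq_zero.mp (mul_self_eq_zero.mp h)
  exact (Finite.injective_iff_surjective.mp hinj) x

variable (hA : B.IsAlt) (hB : B.Nondegenerate) (h2 : (2 : F) = 0)
  (hQs : ∀ (c : F) (v : V), Q (c • v) = c * c * Q v)
  (hQa : ∀ x y, Q (x + y) = Q x + Q y + B x y)

include hA h2 hQs hQa in
theorem exists_singular (W : Submodule F V) (hW : 3 ≤ Module.finrank F W) :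
    ∃ x ∈ W, x ≠ 0 ∧ Q x = 0 := by
  have hW0 : W ≠ ⊥ := fun h => by rw [h, finrank_bot] at hW; omega
  obtain ⟨x, hxW, hx0⟩ := Submodule.exists_mem_ne_zero_of_ne_bot hW0
  obtain ⟨y, hyW, hxy, hy⟩ : ∃ y ∈ W, B x y = 0 ∧ y ∉ Submodule.span F {x} := by
    by_contra hne
    push Not at hne
    have hle : W ⊓ LinearMap.ker (B x) ≤ Submodule.span F {x} := fun y hy => hne y hy.1 hy.2
    have h1 := Submodule.finrank_mono hle
    rw [finrank_span_singleton hx0] at h1
    have h3 := Submodule.finrank_sup_add_finrank_inf_eq W (LinearMap.ker (B x))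
    have h4 := LinearMap.finrank_range_add_finrank_ker (B x)
    have h5 : Module.finrank F (LinearMap.range (B x)) ≤ 1 := by
      simpa using Submodule.finrank_le (LinearMap.range (B x))
    have h6 := Submodule.finrank_le (W ⊔ LinearMap.ker (B x))
    omega
  have hy0 : y ≠ 0 := fun h => hy (h ▸ Submodule.zero_mem _)
  by_cases hQy : Q y = 0
  · exact ⟨y, hyW, hy0, hQy⟩
  obtain ⟨b, hb⟩ := exists_sq h2 (Q x / Q y)
  refine ⟨x + b • y, W.add_mem hxW (W.smul_mem b hyW), ?_, ?_⟩
  · intro h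
    rcases eq_or_ne b 0 with rfl | hb0
    · exact hx0 (by simpa using h)
    · refine hy (Submodule.mem_span_singleton.mpr ⟨-b⁻¹, ?_⟩)
      rw [neg_smul, eq_neg_of_add_eq_zero_left h, smul_neg, neg_neg, smul_smul,
        inv_mul_cancel₀ hb0, one_smul]
  · rw [hQa, hQs, map_smul, hxy, smul_zero, add_zero, hb, div_mul_cancel₀ _ hQy]
    linear_combination Q x * h2

include hA h2 hQs hQa in
theorem eq_top (hdim : 6 ≤ Module.finrank F V) (hBn : B.Nondegenerate) (L : Subgroup (V ≃ₗ[F] V))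
    (hL : L ≤ iso B) (hO : ∀ g ∈ iso B, (∀ v, Q (g v) = Q v) → g ∈ L)
    {g : V ≃ₗ[F] V} (hg : g ∈ L) (hgQ : ¬ ∀ v, Q (g v) = Q v) :
    ∀ v : V, v ∈ centres hA L := by
  have hneg : ∀ a : F, -a = a := fun a => by linear_combination (-a) * h2
  have hrefl : ∀ w, Q w ≠ 0 → tv hA w (Q w)⁻¹ ∈ L := by
    intro w hw
    refine hO _ (tv_mem_iso hA w _) fun x => ?_
    rw [tv_apply, hQa, hQs, map_smul, smul_eq_mul]
    field_simp
    linear_combination (B x w) ^ 2 * h2
  obtain ⟨u, c, hu, hc, hcu, hu00'⟩ : ∃ u c, tv hA u c ∈ L ∧ c ≠ 0 ∧ 1 + c * Q u ≠ 0 ∧ u ≠ 0 := by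
    obtain ⟨h, hh, v, hv, hne⟩ : ∃ h ∈ L, ∃ v, Q v ≠ 0 ∧ Q (h v) ≠ Q v := by
      push Not at hgQ
      obtain ⟨v, hv⟩ := hgQ
      by_cases hv0 : Q v = 0
      · refine ⟨g⁻¹, L.inv_mem hg, g v, by rw [← hv0]; exact hv, ?_⟩
        rw [show g⁻¹ (g v) = v from g.symm_apply_apply v]
        exact fun h => hv h.symm
      · exact ⟨g, hg, v, hv0, hv⟩
    refine ⟨h v, (Q v)⁻¹, ?_, inv_ne_zero hv, fun h' => hne ?_, fun h' => hv ?_⟩
    · rw [← tv_conj hA (hL hh)]
      exact L.mul_mem (L.mul_mem hh (hrefl v hv)) (L.inv_mem hh)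
    · field_simp at h'
      linear_combination h' - Q v * h2
    · have hv0 : v = 0 := h.injective (h'.trans (map_zero h).symm)
      rw [hv0, ← zero_smul F v, hQs, zero_mul, zero_mul]
  -- conjugates of `u` by reflections
  have hconj : ∀ {k : V ≃ₗ[F] V}, k ∈ L → ∀ {x : V} {d : F}, tv hA x d ∈ L → tv hA (k x) d ∈ L :=
    fun hk _ _ hx => by
      rw [← tv_conj hA (hL hk)]
      exact L.mul_mem (L.mul_mem hk hx) (L.inv_mem hk)
  set e := c * (1 + c * Q u) with he
  have he0 : e ≠ 0 := mul_ne_zero hc hcu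
  have hu0 : ∀ z b, (∃ u', tv hA u' c ∈ L ∧ Q u' = Q u ∧ B z u' = b) →
      Q z + e * b ^ 2 ≠ 0 → tv hA z (Q z + e * b ^ 2)⁻¹ ∈ L := by
    rintro z b ⟨u', hu', hQu', rfl⟩ hne
    have hk := tv_apply hA u' c z
    set z' := tv hA u' c z with hz'
    have hQz' : Q z' = Q z + e * (B z u') ^ 2 := by
      rw [hk, hQa, hQs, map_smul, smul_eq_mul, hQu', he]; ring
    have h1 := hconj hu' (hrefl z' (by rw [hQz']; exact hne))
    have h3 : tv hA u' c z' = z := by
      rw [tv_apply, hk, map_add, map_smul, LinearMap.add_apply, LinearMap.smul_apply, hA.self_eq_zero,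
        smul_zero, add_zero, add_assoc, ← add_smul,
        show c * B z u' + c * B z u' = 0 by linear_combination (c * B z u') * h2, zero_smul,
        add_zero]
    rwa [h3, hQz'] at h1
  have hwit : ∀ z, (∀ a : F, z ≠ a • u) → (∀ a : F, u ≠ a • z) → z ∈ centres hA L := by
    intro z hzu huz
    have hu00 : u ≠ 0 := fun h => huz 0 (by rw [h, zero_smul])
    have hz00 : z ≠ 0 := fun h => hzu 0 (by rw [h, zero_smul])
    have hpair : ∀ {x y : V}, (∀ a : F, y ≠ a • x) → y ≠ 0 → ∃ p, B x p = 0 ∧ B y p ≠ 0 := by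
      intro x y hxy hy
      by_contra hne
      push Not at hne
      by_cases hx : x = 0
      · refine hy (hBn.1 y fun p => hne p ?_)
        rw [hx, map_zero, LinearMap.zero_apply]
      obtain ⟨p₀, hp₀⟩ : ∃ p, B x p ≠ 0 := by
        by_contra h; push Not at h; exact hx (hBn.1 x h)
      refine hxy (B y p₀ / B x p₀) (sub_eq_zero.mp (hBn.1 _ fun p => ?_))
      have h := hne (p - (B x p / B x p₀) • p₀) (by
        rw [map_sub, map_smul, smul_eq_mul, div_mul_cancel₀ _ hp₀, sub_self])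
      rw [map_sub, map_smul, smul_eq_mul, sub_eq_zero] at h
      rw [map_sub, LinearMap.sub_apply, map_smul, LinearMap.smul_apply, smul_eq_mul, h]
      field_simp
      ring
    obtain ⟨p, hzp, hup⟩ := hpair huz hu00
    obtain ⟨q, huq, hzq⟩ := hpair hzu hz00
    set w₀ := (B u p)⁻¹ • p + (B z q)⁻¹ • q with hw₀
    have hwu : B u w₀ = 1 := by simp [hw₀, huq, hup]
    have hwz : B z w₀ = 1 := by simp [hw₀, hzp, hzq]
    obtain ⟨x, hxu, hxz, hxw, hQx⟩ :
        ∃ x, B u x = 0 ∧ B z x = 0 ∧ B w₀ x = 0 ∧ Q x ≠ 0 := by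
      by_contra hno
      push Not at hno
      let Φ : V →ₗ[F] (Fin 3 → F) := LinearMap.pi ![B u, B z, B w₀]
      set K := LinearMap.ker Φ with hK
      have hk : ∀ x ∈ K, ∀ i, ![B u, B z, B w₀] i x = 0 := fun x hx i =>
        congrFun (LinearMap.mem_ker.mp hx) i
      have hQK : ∀ x ∈ K, Q x = 0 := fun x hx => hno x (hk x hx 0) (hk x hx 1) (hk x hx 2)
      have hle : K ≤ B.orthogonal K := fun x hx y hy => by
        have h := hQa y x
        rw [hQK y hy, hQK x hx, hQK _ (K.add_mem hy hx), zero_add, zero_add] at h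
        exact h.symm
      have hue : u ∈ B.orthogonal K := fun y hy => by
        show B y u = 0
        rw [← LinearMap.IsAlt.neg hA, show B u y = 0 from hk y hy 0, neg_zero]
      have h4 := LinearMap.finrank_range_add_finrank_ker Φ
      rw [← hK] at h4
      have h5 : Module.finrank F (LinearMap.range Φ) ≤ 3 := by
        simpa using Submodule.finrank_le (LinearMap.range Φ)
      have h6 : Module.finrank F (B.orthogonal K) = Module.finrank F V - Module.finrank F K :=
        LinearMap.BilinForm.finrank_orthogonal hBn K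
      have h7 := Submodule.finrank_mono hle
      have heq : K = B.orthogonal K := Submodule.eq_of_le_of_finrank_eq hle (by omega)
      rw [← heq] at hue
      have h8 := hk u hue 2
      exact one_ne_zero (α := F) (by
        rw [← hwu, ← LinearMap.IsAlt.neg hA]; exact neg_eq_zero.mpr h8)
    have hb : ∀ b : F, ∃ u', tv hA u' c ∈ L ∧ Q u' = Q u ∧ B z u' = b := by
      intro b
      rcases eq_or_ne b (B z u) with rfl | hb
      · exact ⟨u, hu, rfl, rfl⟩
      have hd : b - B z u ≠ 0 := sub_ne_zero.mpr hb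
      obtain ⟨s, hs⟩ := exists_sq h2 (((b - B z u)⁻¹ - Q w₀) / Q x)
      set w := w₀ + s • x with hw
      have hQw : Q w = (b - B z u)⁻¹ := by
        rw [hw, hQa, hQs, map_smul, smul_eq_mul, hxw, mul_zero, add_zero, hs,
          div_mul_cancel₀ _ hQx]
        ring
      have hQw0 : Q w ≠ 0 := by rw [hQw]; exact inv_ne_zero hd
      have hBu : B u w = 1 := by rw [hw, map_add, map_smul, hxu, smul_zero, add_zero, hwu]
      have hBz : B z w = 1 := by rw [hw, map_add, map_smul, hxz, smul_zero, add_zero, hwz]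
      refine ⟨tv hA w (Q w)⁻¹ u, hconj (hrefl w hQw0) hu, ?_, ?_⟩
      · rw [tv_apply, hQa, hQs, map_smul, smul_eq_mul, hBu, mul_one]
        field_simp
        linear_combination h2
      · rw [tv_apply, map_add, map_smul, smul_eq_mul, hBu, hBz, hQw, inv_inv]
        ring
    intro d
    rcases eq_or_ne d 0 with rfl | hd
    · rw [tv_zero]; exact L.one_mem
    obtain ⟨b, hb'⟩ := exists_sq h2 ((d⁻¹ - Q z) / e)
    have hx' : Q z + e * b ^ 2 = d⁻¹ := by
      rw [pow_two, hb', mul_div_cancel₀ _ he0]; ring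
    have := hu0 z b (hb b) (by rw [hx']; exact inv_ne_zero hd)
    rwa [hx', inv_inv] at this
  intro z
  by_cases hz : ∀ a : F, z ≠ a • u
  · by_cases hz' : ∀ a : F, u ≠ a • z
    · exact hwit z hz hz'
    · push Not at hz'
      obtain ⟨a, ha⟩ := hz'
      rcases eq_or_ne a 0 with rfl | ha0
      · exact absurd (by rw [ha, zero_smul]) hu00'
      · exact absurd (show z = a⁻¹ • u by rw [ha, smul_smul, inv_mul_cancel₀ ha0, one_smul]) (hz _)
  · push Not at hz
    obtain ⟨a, rfl⟩ := hz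
    rcases eq_or_ne (a • u) 0 with h0 | h0
    · intro d
      rw [h0, show tv hA (0 : V) d = 1 from LinearEquiv.ext fun x => by simp [tv_apply]]
      exact L.one_mem
    obtain ⟨v, hv⟩ := exists_apply_ne_zero hBn h0
    have hu00 : u ≠ 0 := fun h => h0 (by rw [h, smul_zero])
    have hindep : ∀ (x : F), x ≠ 0 → ∀ y : V, B y (a • u) ≠ 0 →
        (∀ b : F, y ≠ b • u) ∧ ∀ b : F, u ≠ b • y := by
      intro x _ y hy
      refine ⟨fun b hb => hy ?_, fun b hb => ?_⟩
      · rw [hb]; simp [hA.self_eq_zero]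
      · rcases eq_or_ne b 0 with rfl | hb0
        · exact hu00 (by rw [hb, zero_smul])
        · apply hy
          rw [hb]; simp [hA.self_eq_zero]
    have hv' := hindep 1 one_ne_zero v hv
    have hvc := hwit v hv'.1 hv'.2
    set t := tv hA v (B (a • u) v)⁻¹
    have hBuv : B (a • u) v ≠ 0 := fun h => hv (by rw [← LinearMap.IsAlt.neg hA, h, neg_zero])
    have htu : t (a • u) = a • u + v := by
      rw [tv_apply, inv_mul_cancel₀ hBuv, one_smul]
    have hy : B (a • u + v) (a • u) ≠ 0 := by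
      rw [map_add, LinearMap.add_apply, hA.self_eq_zero, zero_add]; exact hv
    have hy' := hindep 1 one_ne_zero _ hy
    have hzc := hwit _ hy'.1 hy'.2
    intro d
    have h := hconj (L.inv_mem (hvc (B (a • u) v)⁻¹)) (hzc d)
    rwa [show (tv hA v (B (a • u) v)⁻¹)⁻¹ (a • u + v) = a • u by
      rw [← htu]; exact t.symm_apply_apply _] at h

end Core

/-- The maximality statement for `m ≥ 3`. -/
theorem main {F : Type*} [Field F] [Fintype F] (m : ℕ) (hm : 3 ≤ m) (heven : ¬ Odd (Fintype.card F)) (Q : (Fin m ⊕ Fin m → F) → F) (hQ : Cfsg.Geo.IsNondegenerateQuadraticForm Q) (hpol : ∀ u v, QuadraticMap.polar Q u v = Cfsg.sympForm m F u v) : Cfsg.Geo.IsMaximalIn (Cfsg.spGL m F) (Cfsg.Geo.quadSimilarityGroup Q ⊓ Cfsg.spGL m F) := by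
  have h2 : (2 : F) = 0 := by
    have h := FiniteField.even_card_iff_char_two.mpr (by rw [Nat.not_odd_iff] at heven; exact heven)
    have : CharP F 2 := h ▸ ringChar.charP F
    exact CharTwo.two_eq_zero
  set B := spB m F with hBdef
  have hA : B.IsAlt := spB_isAlt m F
  have hBn : B.Nondegenerate := spB_nondegenerate m F
  have hQs : ∀ (c : F) (v : Fin m ⊕ Fin m → F), Q (c • v) = c * c * Q v := fun c v => by
    rw [hQ.smul, pow_two]
  have hQa : ∀ x y, Q (x + y) = Q x + Q y + B x y := fun x y => by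
    rw [hBdef, spB_apply, ← hpol, QuadraticMap.polar]; ring
  have hdim : 6 ≤ Module.finrank F (Fin m ⊕ Fin m → F) := by rw [finrank_space]; omega
  have hmem : ∀ g ∈ Cfsg.spGL m F, g ∈ Cfsg.Geo.quadSimilarityGroup Q ↔
      ∀ v, Q ((g : Matrix (Fin m ⊕ Fin m) (Fin m ⊕ Fin m) F).mulVec v) = Q v := by
    intro g hg
    constructor
    · rintro ⟨c, hc⟩ v
      have hz : (fun i : Fin m ⊕ Fin m => if i = Sum.inl ⟨0, by omega⟩ then (1 : F) else 0) ≠ 0 :=
        fun h => one_ne_zero (α := F) (by simpa using congrFun h (Sum.inl ⟨0, by omega⟩))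
      obtain ⟨y, hy⟩ := exists_apply_ne_zero hBn hz
      set z := fun i : Fin m ⊕ Fin m => if i = Sum.inl ⟨0, by omega⟩ then (1 : F) else 0
      have h1 : B ((g : Matrix _ _ F).mulVec y) ((g : Matrix _ _ F).mulVec z) = B y z := by
        rw [hBdef, spB_apply, spB_apply]; exact hg y z
      have h3 := hQa ((g : Matrix _ _ F).mulVec y) ((g : Matrix _ _ F).mulVec z)
      rw [← Matrix.mulVec_add, hc, hc, hc, hQa y z, h1] at h3
      have hc1 : (c : F) = 1 := mul_right_cancel₀ hy (by linear_combination h3)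
      rw [hc, hc1, one_mul]
    · exact fun h => ⟨1, fun v => by rw [h, Units.val_one, one_mul]⟩
  set E := glEquiv (Fin m ⊕ Fin m) F
  refine ⟨lt_of_le_of_ne inf_le_right fun heq => ?_, fun M hM1 hM2 => ?_⟩
  · -- a singular transvection is not an isometry
    obtain ⟨v, -, hv0, hQv⟩ := exists_singular hA h2 hQs hQa ⊤ (by rw [finrank_top]; omega)
    obtain ⟨x, hx⟩ := exists_apply_ne_zero hBn hv0
    set g := E.symm (tv hA v 1)
    have hg : g ∈ Cfsg.spGL m F := by
      rw [spGL_eq_comap]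
      show E g ∈ iso B
      rw [MulEquiv.apply_symm_apply]
      exact tv_mem_iso hA v 1
    have h := (hmem g hg).mp (heq.ge hg).1 x
    rw [← glEquiv_apply, MulEquiv.apply_symm_apply, tv_apply, one_mul, hQa, hQs, hQv, map_smul,
      smul_eq_mul] at h
    exact hx (mul_self_eq_zero.mp (by linear_combination h))
  · by_cases hle : M ≤ Cfsg.Geo.quadSimilarityGroup Q
    · exact Or.inl (le_antisymm (le_inf hle hM2) hM1)
    refine Or.inr (le_antisymm hM2 ?_)
    obtain ⟨g, hgM, hgQ⟩ := SetLike.not_le_iff_exists.mp hle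
    rw [hmem g (hM2 hgM)] at hgQ
    have hL : M.map E.toMonoidHom ≤ iso B := by
      rintro _ ⟨k, hk, rfl⟩
      have := hM2 hk
      rw [spGL_eq_comap] at this
      exact this
    have hO : ∀ k ∈ iso B, (∀ v, Q (k v) = Q v) → k ∈ M.map E.toMonoidHom := by
      intro k hk hkQ
      refine ⟨E.symm k, hM1 ?_, E.apply_symm_apply k⟩
      have hk' : E.symm k ∈ Cfsg.spGL m F := by
        rw [spGL_eq_comap]; show E (E.symm k) ∈ iso B; rw [MulEquiv.apply_symm_apply]; exact hk
      refine ⟨(hmem _ hk').mpr fun v => ?_, hk'⟩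
      rw [← glEquiv_apply, MulEquiv.apply_symm_apply, hkQ]
    have hall := eq_iso_of_centres hBn hA hL (eq_top hA h2 hQs hQa hdim hBn _ hL hO
      (Subgroup.mem_map_of_mem _ hgM) (by simpa [E, glEquiv_apply] using hgQ))
    intro k hk
    rw [spGL_eq_comap] at hk
    have hk2 : E k ∈ M.map E.toMonoidHom := hall ▸ hk
    obtain ⟨k', hk', he⟩ := hk2
    rwa [← E.injective he]

/-- The maximality statement for `m ≥ 5`. -/
theorem isMaximal {F : Type*} [Field F] [Fintype F] (m : ℕ) (hm : 5 ≤ m) (heven : ¬ Odd (Fintype.card F)) (Q : (Fin m ⊕ Fin m → F) → F) (hQ : Cfsg.Geo.IsNondegenerateQuadraticForm Q) (hpol : ∀ u v, QuadraticMap.polar Q u v = Cfsg.sympForm m F u v) : Cfsg.Geo.IsMaximalIn (Cfsg.spGL m F) (Cfsg.Geo.quadSimilarityGroup Q ⊓ Cfsg.spGL m F) :=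
  main m (le_trans (by norm_num) hm) heven Q hQ hpol

end Cfsg.Lib.Linear.SpGeo.Quadratic
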