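import Cfsg.Agent.Lib.Linear.SymplecticMax

/-! Maximality in `Sp_2m`, `m ≥ 3`: Singular. -/

set_option autoImplicit false
open Cfsg

namespace Cfsg.Lib.Linear.SpGeo.Singular

/-- The maximality statement for `m ≥ 3`. -/
theorem main' {F : Type*} [Field F] [Fintype F] (m : ℕ) (hm : 2 ≤ m) (W : Submodule F (Fin m ⊕ Fin m → F)) (hW0 : W ≠ ⊥) (hW : Cfsg.Geo.IsTotallySingularFor (Cfsg.sympForm m F) W) : Cfsg.Geo.IsMaximalIn (Cfsg.spGL m F) (Cfsg.Geo.subspaceStabilizer W ⊓ Cfsg.spGL m F) := by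
  have hW' : ∀ u ∈ W, ∀ v ∈ W, Cfsg.Lib.Linear.Symp.spB m F u v = 0 := fun u hu v hv => by
    rw [Cfsg.Lib.Linear.Symp.spB_apply]; exact hW u hu v hv
  have h1 : W ≠ ⊤ := by
    rintro rfl
    obtain ⟨e, he⟩ : ∃ e : Fin m ⊕ Fin m → F, e ≠ 0 :=
      ⟨Pi.single (Sum.inl ⟨0, by omega⟩) 1, Pi.single_ne_zero_iff.2 one_ne_zero⟩
    obtain ⟨x, hx⟩ := Cfsg.Lib.Linear.Symp.exists_apply_ne_zero (Cfsg.Lib.Linear.Symp.spB_nondegenerate m F) he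
    exact hx (hW' x Submodule.mem_top e Submodule.mem_top)
  exact Cfsg.Lib.Linear.Symp.isMaximalIn_spGL W hW0 h1 fun L h2 h3 =>
    Cfsg.Lib.Linear.Symp.maximal_singular (Cfsg.Lib.Linear.Symp.spB_nondegenerate m F)
      (Cfsg.Lib.Linear.Symp.spB_isAlt m F) hW' h2 h3

/-- The case `m ≥ 3`. -/
theorem main {F : Type*} [Field F] [Fintype F] (m : ℕ) (hm : 3 ≤ m) (W : Submodule F (Fin m ⊕ Fin m → F)) (hW0 : W ≠ ⊥) (hW : Cfsg.Geo.IsTotallySingularFor (Cfsg.sympForm m F) W) : Cfsg.Geo.IsMaximalIn (Cfsg.spGL m F) (Cfsg.Geo.subspaceStabilizer W ⊓ Cfsg.spGL m F) :=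
  main' m (le_trans (by norm_num) hm) W hW0 hW

/-- The maximality statement for `m ≥ 5`. -/
theorem isMaximal {F : Type*} [Field F] [Fintype F] (m : ℕ) (hm : 5 ≤ m) (W : Submodule F (Fin m ⊕ Fin m → F)) (hW0 : W ≠ ⊥) (hW : Cfsg.Geo.IsTotallySingularFor (Cfsg.sympForm m F) W) : Cfsg.Geo.IsMaximalIn (Cfsg.spGL m F) (Cfsg.Geo.subspaceStabilizer W ⊓ Cfsg.spGL m F) :=
  main m (le_trans (by norm_num) hm) W hW0 hW

end Cfsg.Lib.Linear.SpGeo.Singular
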