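import Cfsg.Agent.Lib.Linear.SubfieldInvol
import Cfsg.Agent.Lib.Linear.Alternating
import Cfsg.Agent.Lib.Linear.SymplecticGroup

/-! Maximality in `Sp_2m`, `m ≥ 3`, and `m = 2` in odd characteristic: Subfield. -/

set_option autoImplicit false
open Cfsg

namespace Cfsg.Lib.Linear.SpGeo.Subfield

open scoped Matrix
open Cfsg.Lib.Linear.Rat0

variable {ι : Type} [Fintype ι] [DecidableEq ι] {F : Type*} [Field F] (F₀ : Subfield F)
  (J : Matrix ι ι F₀)

def a (v : ι → F) : ι → F := J.map F₀.subtype *ᵥ v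

def f (u v : ι → F) : F := u ⬝ᵥ a F₀ J v

def f0 (x y : ι → F₀) : F₀ := x ⬝ᵥ (J *ᵥ y)

/-- The isometry group of the form of `J`. -/
def G : Subgroup (GL ι F) := Cfsg.preserving (Cfsg.glToMat ι F) (f F₀ J)

/-- The rational part of the isometry group. -/
def base : Subgroup (GL ι F) := Cfsg.Geo.subfieldSubgroup F₀ 1 ⊓ G F₀ J

def E (p q : ι → F) : Matrix ι ι F := Matrix.vecMulVec p (a F₀ J q)

def mixMat (p q : ι → F) (l : F) : Matrix ι ι F := 1 + (E F₀ J p q + E F₀ J q p) + l • E F₀ J q q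

/-- The hypothesis that the form is alternating. -/
def Alt : Prop := ∀ u : ι → F, f F₀ J u u = 0

variable {F₀ J}

theorem mem_G {g : GL ι F} : g ∈ G F₀ J ↔ ∀ u v,
    f F₀ J ((g : Matrix ι ι F) *ᵥ u) ((g : Matrix ι ι F) *ᵥ v) = f F₀ J u v := Iff.rfl

theorem a_add (x y : ι → F) : a F₀ J (x + y) = a F₀ J x + a F₀ J y := Matrix.mulVec_add _ _ _
theorem a_smul (c : F) (x : ι → F) : a F₀ J (c • x) = c • a F₀ J x := Matrix.mulVec_smul _ _ _
theorem a_rv (x : ι → F₀) : a F₀ J (rv F₀ x) = rv F₀ (J *ᵥ x) := by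
  funext i
  exact (RingHom.map_mulVec F₀.subtype J x i).symm

theorem f_rv (x y : ι → F₀) : f F₀ J (rv F₀ x) (rv F₀ y) = (f0 F₀ J x y : F) := by
  rw [f, a_rv, rv_dot]; rfl

theorem f_add_left (x y z : ι → F) : f F₀ J (x + y) z = f F₀ J x z + f F₀ J y z := add_dotProduct _ _ _
theorem f_add_right (x y z : ι → F) : f F₀ J z (x + y) = f F₀ J z x + f F₀ J z y := by
  rw [f, a_add, dotProduct_add]; rfl
theorem f_smul_left (c : F) (x z : ι → F) : f F₀ J (c • x) z = c * f F₀ J x z := smul_dotProduct _ _ _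
theorem f_smul_right (c : F) (x z : ι → F) : f F₀ J z (c • x) = c * f F₀ J z x := by
  rw [f, a_smul, dotProduct_smul]; rfl
theorem f_zero_left (z : ι → F) : f F₀ J 0 z = 0 := zero_dotProduct _
theorem f_sub_left (x y z : ι → F) : f F₀ J (x - y) z = f F₀ J x z - f F₀ J y z := sub_dotProduct _ _ _

theorem f_skew (hA : Alt F₀ J) (u v : ι → F) : f F₀ J u v = -f F₀ J v u := by
  have h := hA (u + v)
  rw [f_add_left, f_add_right, f_add_right, hA u, hA v, zero_add, add_zero] at h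
  exact eq_neg_of_add_eq_zero_left h

theorem f0_skew (hA : Alt F₀ J) (u v : ι → F₀) : f0 F₀ J u v = -f0 F₀ J v u :=
  Subtype.ext (by rw [← f_rv, f_skew hA, f_rv]; rfl)

theorem f0_self (hA : Alt F₀ J) (u : ι → F₀) : f0 F₀ J u u = 0 :=
  Subtype.ext (by rw [← f_rv, hA]; rfl)

theorem f0_perp (hA : Alt F₀ J) {u v : ι → F₀} (h : f0 F₀ J u v = 0) : f0 F₀ J v u = 0 := by
  rw [f0_skew hA, h, neg_zero]

theorem f0_add_left (x y z : ι → F₀) : f0 F₀ J (x + y) z = f0 F₀ J x z + f0 F₀ J y z := add_dotProduct _ _ _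
theorem f0_sub_left (x y z : ι → F₀) : f0 F₀ J (x - y) z = f0 F₀ J x z - f0 F₀ J y z := sub_dotProduct _ _ _
theorem f0_smul_left (c : F₀) (x z : ι → F₀) : f0 F₀ J (c • x) z = c * f0 F₀ J x z := smul_dotProduct _ _ _
theorem f0_zero_left (z : ι → F₀) : f0 F₀ J 0 z = 0 := zero_dotProduct _
theorem f0_sub_right (x y z : ι → F₀) : f0 F₀ J z (x - y) = f0 F₀ J z x - f0 F₀ J z y := by
  rw [f0, Matrix.mulVec_sub, dotProduct_sub]; rfl
theorem f0_dot (x p : ι → F₀) : f0 F₀ J x p = (x ᵥ* J) ⬝ᵥ p := Matrix.dotProduct_mulVec _ _ _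

theorem E_mul (p q r s : ι → F) : E F₀ J p q * E F₀ J r s = f F₀ J r q • E F₀ J p s := by
  rw [E, E, Matrix.vecMulVec_mul_vecMulVec, Matrix.vecMulVec_smul, dotProduct_comm]
  rfl

theorem E_mulVec (p q v : ι → F) : E F₀ J p q *ᵥ v = f F₀ J v q • p := by
  rw [E, Matrix.vecMulVec_mulVec, dotProduct_comm]
  funext i
  simp [f, mul_comm]

theorem E_add_left (p p' q : ι → F) : E F₀ J (p + p') q = E F₀ J p q + E F₀ J p' q :=
  Matrix.add_vecMulVec _ _ _
theorem E_add_right (p q q' : ι → F) : E F₀ J p (q + q') = E F₀ J p q + E F₀ J p q' := by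
  rw [E, a_add, Matrix.vecMulVec_add]; rfl
theorem E_smul_left (c : F) (p q : ι → F) : E F₀ J (c • p) q = c • E F₀ J p q :=
  Matrix.smul_vecMulVec _ _ _
theorem E_smul_right (c : F) (p q : ι → F) : E F₀ J p (c • q) = c • E F₀ J p q := by
  rw [E, a_smul, Matrix.vecMulVec_smul]; rfl
theorem E_zero_left (q : ι → F) : E F₀ J 0 q = 0 := Matrix.zero_vecMulVec _
theorem E_zero_right (q : ι → F) : E F₀ J q 0 = 0 := by
  rw [E, a, Matrix.mulVec_zero, Matrix.vecMulVec_zero]

theorem mix_mul (hA : Alt F₀ J) {p p' q : ι → F} (h : f F₀ J p q = 0) (h' : f F₀ J p' q = 0)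
    (l l' : F) : mixMat F₀ J p q l * mixMat F₀ J p' q l' =
      mixMat F₀ J (p + p') q (l + l' + f F₀ J p' p) := by
  have hq : f F₀ J q p = 0 := by rw [f_skew hA, h, neg_zero]
  simp only [mixMat, add_mul, mul_add, one_mul, mul_one, smul_mul_assoc, mul_smul_comm, E_mul, h',
    hq, hA q, zero_smul, smul_zero, add_zero, zero_add, E_add_left, E_add_right, add_smul]
  abel

theorem mix_mulVec (p q v : ι → F) (l : F) : mixMat F₀ J p q l *ᵥ v =
    v + (f F₀ J v q • p + f F₀ J v p • q) + (l * f F₀ J v q) • q := by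
  rw [mixMat, Matrix.add_mulVec, Matrix.add_mulVec, Matrix.add_mulVec, Matrix.one_mulVec,
    Matrix.smul_mulVec, E_mulVec, E_mulVec, E_mulVec, smul_smul]

theorem mix_zero (q : ι → F) : mixMat F₀ J 0 q 0 = 1 := by
  simp [mixMat, E_zero_left, E_zero_right]

theorem mix_mul_neg (hA : Alt F₀ J) {p q : ι → F} (h : f F₀ J p q = 0) (l : F) :
    mixMat F₀ J p q l * mixMat F₀ J (-p) q (-l) = 1 := by
  rw [mix_mul hA h (by rw [← neg_one_smul F p, f_smul_left, h, mul_zero])]
  rw [add_neg_cancel, ← neg_one_smul F p, f_smul_left, hA, mul_zero, add_zero, add_neg_cancel,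
    mix_zero]

/-- The mixed element as a unit. -/
def mixU (hA : Alt F₀ J) (p q : ι → F) (l : F) (h : f F₀ J p q = 0) : GL ι F :=
  ⟨mixMat F₀ J p q l, mixMat F₀ J (-p) q (-l), mix_mul_neg hA h l, by
    have h2 := mix_mul_neg hA (p := -p) (q := q)
      (by rw [← neg_one_smul F p, f_smul_left, h, mul_zero]) (-l)
    rwa [neg_neg, neg_neg] at h2⟩

theorem coe_mixU (hA : Alt F₀ J) (p q : ι → F) (l : F) (h : f F₀ J p q = 0) :
    (mixU hA p q l h : Matrix ι ι F) = mixMat F₀ J p q l := rfl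

theorem mixU_mem_G (hA : Alt F₀ J) (p q : ι → F) (l : F) (h : f F₀ J p q = 0) :
    mixU hA p q l h ∈ G F₀ J := by
  rw [mem_G]
  intro u v
  have hq : f F₀ J q p = 0 := by rw [f_skew hA, h, neg_zero]
  simp only [coe_mixU, mix_mulVec, f_add_left, f_add_right, f_smul_left, f_smul_right, h, hq, hA p,
    hA q, f_skew hA p v, f_skew hA q v]
  ring

variable {L : Subgroup (GL ι F)}

/-- The mixed element lies in `L`. -/
def Mix (L : Subgroup (GL ι F)) (p q : ι → F) (l : F) : Prop :=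
  f F₀ J p q = 0 ∧ ∃ g ∈ L, (g : Matrix ι ι F) = mixMat F₀ J p q l

local notation "M[" L ", " p ", " q ", " l "]" => Mix (F₀ := F₀) (J := J) L p q l

theorem Mix.mul (hA : Alt F₀ J) {p p' q : ι → F} {l l' : F} (h : M[L, p, q, l])
    (h' : M[L, p', q, l']) : M[L, p + p', q, l + l' + f F₀ J p' p] := by
  obtain ⟨h, g, hg, hge⟩ := h
  obtain ⟨h', g', hg', hge'⟩ := h'
  exact ⟨by rw [f_add_left, h, h', add_zero], g * g', L.mul_mem hg hg',
    by rw [Units.val_mul, hge, hge', mix_mul hA h h']⟩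

theorem Mix.neg (hA : Alt F₀ J) {p q : ι → F} {l : F} (h : M[L, p, q, l]) :
    M[L, -p, q, -l] := by
  obtain ⟨h, g, hg, hge⟩ := h
  have h' : f F₀ J (-p) q = 0 := by rw [← neg_one_smul F p, f_smul_left, h, mul_zero]
  refine ⟨h', g⁻¹, L.inv_mem hg, ?_⟩
  have e : g = mixU hA p q l h := Units.ext hge
  rw [e]
  rfl

theorem Mix.symm (hA : Alt F₀ J) {p q : ι → F} (h : M[L, p, q, 0]) : M[L, q, p, 0] := by
  obtain ⟨h, g, hg, hge⟩ := h
  refine ⟨by rw [f_skew hA, h, neg_zero], g, hg, ?_⟩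
  rw [hge, mixMat, mixMat]
  simp [add_comm]

theorem Mix.smul {p q : ι → F} {s l : F} (h : M[L, p, s • q, l]) (hs : s ≠ 0) :
    M[L, s • p, q, l * (s * s)] := by
  obtain ⟨h, g, hg, hge⟩ := h
  rw [f_smul_right] at h
  refine ⟨by rw [f_smul_left, h], g, hg, ?_⟩
  rw [hge, mixMat, mixMat]
  simp only [E_smul_left, E_smul_right, smul_smul]

theorem mix_one_zero (q : ι → F) : M[L, 0, q, 0] :=
  ⟨f_zero_left _, 1, L.one_mem, by rw [mix_zero, Units.val_one]⟩

/-- Long elements scale quadratically. -/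
theorem lon_smul {q : ι → F} {s l : F} (h : M[L, 0, q, l * (s * s)]) : M[L, 0, s • q, l] := by
  obtain ⟨-, g, hg, hge⟩ := h
  refine ⟨f_zero_left _, g, hg, ?_⟩
  rw [hge, mixMat, mixMat]
  simp [E_zero_left, E_zero_right, E_smul_left, E_smul_right, smul_smul, mul_assoc]

theorem a_conj {g : GL ι F} (hg : g ∈ G F₀ J) (v : ι → F) :
    a F₀ J ((g : Matrix ι ι F) *ᵥ v) = a F₀ J v ᵥ* ((g⁻¹ : GL ι F) : Matrix ι ι F) := by
  refine dotProduct_eq _ _ fun w => ?_
  rw [← Matrix.dotProduct_mulVec, dotProduct_comm, dotProduct_comm (a F₀ J v)]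
  have := mem_G.mp hg (((g⁻¹ : GL ι F) : Matrix ι ι F) *ᵥ w) v
  rw [Matrix.mulVec_mulVec, ← Units.val_mul, mul_inv_cancel, Units.val_one,
    Matrix.one_mulVec] at this
  exact this

theorem Mix.conj (hLG : L ≤ G F₀ J) {g : GL ι F} (hg : g ∈ L) {p q : ι → F} {l : F}
    (h : M[L, p, q, l]) :
    M[L, (g : Matrix ι ι F) *ᵥ p, (g : Matrix ι ι F) *ᵥ q, l] := by
  obtain ⟨h, x, hx, hxe⟩ := h
  refine ⟨by rw [mem_G.mp (hLG hg), h], g * x * g⁻¹, L.mul_mem (L.mul_mem hg hx) (L.inv_mem hg), ?_⟩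
  rw [Units.val_mul, Units.val_mul, hxe, mixMat, mixMat, E, E, E, E, E, E]
  simp only [a_conj (hLG hg), mul_add, add_mul, mul_one, mul_smul_comm, smul_mul_assoc,
    Matrix.mul_vecMulVec, Matrix.vecMulVec_mul]
  rw [← Units.val_mul, mul_inv_cancel, Units.val_one]

/-- Conjugation by a mixed element. -/
theorem Mix.conj' (hA : Alt F₀ J) (hLG : L ≤ G F₀ J) {p q u v : ι → F} {l m : F}
    (hg : M[L, p, q, l]) (h : M[L, u, v, m]) :
    M[L, u + (f F₀ J u q • p + f F₀ J u p • q) + (l * f F₀ J u q) • q,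
      v + (f F₀ J v q • p + f F₀ J v p • q) + (l * f F₀ J v q) • q, m] := by
  obtain ⟨-, g, hg, hge⟩ := hg
  have := Mix.conj hLG hg h
  rwa [hge, mix_mulVec, mix_mulVec] at this

theorem mix_of_lon (hA : Alt F₀ J) {u x : ι → F} {c : F} (hux : f F₀ J u x = 0)
    (h1 : M[L, 0, u + x, c]) (h2 : M[L, 0, u, c]) : M[L, c • u, x, c] := by
  obtain ⟨-, g, hg, hge⟩ := h1
  obtain ⟨-, g', hg', hge'⟩ := Mix.neg hA h2
  have hxu : f F₀ J x u = 0 := by rw [f_skew hA, hux, neg_zero]
  refine ⟨by rw [f_smul_left, hux, mul_zero], g * g', L.mul_mem hg hg', ?_⟩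
  rw [Units.val_mul, hge, hge']
  simp only [mixMat, neg_zero, E_zero_left, E_zero_right, add_zero, E_smul_left, E_smul_right,
    E_add_left, E_add_right, add_mul, mul_add, one_mul, mul_one, smul_mul_assoc, mul_smul_comm,
    E_mul, hA u, hxu, hux, zero_smul, smul_zero, smul_add]
  module

/-- Dimension at least six, or dimension four in odd characteristic. -/
def Big (ι : Type) [Fintype ι] (F : Type*) [Field F] : Prop :=
  6 ≤ Fintype.card ι ∨ (Fintype.card ι = 4 ∧ (2 : F) ≠ 0)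

omit [DecidableEq ι] in
theorem Big.four (h : Big ι F) : 4 ≤ Fintype.card ι := by
  rcases h with h | ⟨h, -⟩ <;> omega

section Rational

variable (hA : Alt F₀ J) (hd : J.det ≠ 0) (hN : base F₀ J ≤ L) (hLG : L ≤ G F₀ J)

include hA hN in
theorem rat (p q : ι → F₀) (l : F₀) (h : f0 F₀ J p q = 0) :
    M[L, rv F₀ p, rv F₀ q, (l : F)] := by
  have h' : f F₀ J (rv F₀ p) (rv F₀ q) = 0 := by rw [f_rv, h]; rfl
  refine ⟨h', mixU hA _ _ _ h', hN (Subgroup.mem_inf.mpr
    ⟨(mem_subfieldSubgroup_one F₀ _).mpr ⟨1, one_ne_zero, fun i j => ?_⟩, mixU_mem_G hA _ _ _ h'⟩),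
    rfl⟩
  have hE : ∀ x y : ι → F₀, E F₀ J (rv F₀ x) (rv F₀ y) i j ∈ F₀ := fun x y => by
    rw [E, Matrix.vecMulVec_apply, a_rv]
    exact F₀.mul_mem (x i).2 ((J *ᵥ y) j).2
  rw [one_mul, coe_mixU, mixMat]
  refine F₀.add_mem (F₀.add_mem ?_ (F₀.add_mem (hE _ _) (hE _ _))) (F₀.mul_mem l.2 (hE _ _))
  rw [Matrix.one_apply]
  split_ifs
  · exact F₀.one_mem
  · exact F₀.zero_mem

include hd in
theorem vecMul_ne {x y : ι → F₀} (h : ∀ t : F₀, x ≠ t • y) (t : F₀) : x ᵥ* J ≠ t • (y ᵥ* J) := by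
  intro e
  rw [← Matrix.smul_vecMul] at e
  exact h t (Matrix.vecMul_injective_of_isUnit ((Matrix.isUnit_iff_isUnit_det J).mpr
    (isUnit_iff_ne_zero.mpr hd)) e)

include hd in
theorem exists_f0_pair {x y : ι → F₀} (h : ∀ t : F₀, x ≠ t • y) :
    ∃ p, f0 F₀ J y p = 0 ∧ f0 F₀ J x p = 1 := by
  obtain ⟨p, h1, h2⟩ := exists_dot_pair (vecMul_ne hd h)
  exact ⟨p, by rw [f0_dot, h1], by rw [f0_dot, h2]⟩

include hd in
theorem exists_f0_one {x : ι → F₀} (h : x ≠ 0) : ∃ p, f0 F₀ J x p = 1 := by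
  obtain ⟨p, -, hp⟩ := exists_f0_pair hd (x := x) (y := 0) fun t e => h (by rw [e, smul_zero])
  exact ⟨p, hp⟩

include hd in
theorem exists_f0_triple {x y w : ι → F₀} (h : ∀ s t : F₀, x ≠ s • y + t • w) :
    ∃ p, f0 F₀ J x p = 1 ∧ f0 F₀ J y p = 0 ∧ f0 F₀ J w p = 0 := by
  obtain ⟨p₁, hy1, hx1⟩ := exists_f0_pair hd (x := x) (y := y) fun t e =>
    h t 0 (by rw [zero_smul, add_zero]; exact e)
  by_cases hw : f0 F₀ J w p₁ = 0
  · exact ⟨p₁, hx1, hy1, hw⟩
  obtain ⟨c, hc⟩ : ∃ c, c * f0 F₀ J w p₁ = 1 := ⟨_, inv_mul_cancel₀ hw⟩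
  obtain ⟨q, hyq, hxq⟩ := exists_f0_pair hd (x := x - c • w) (y := y) fun t e =>
    h t c (by rw [← e, sub_add_cancel])
  rw [f0_sub_left, f0_smul_left] at hxq
  have hlin : ∀ (x : ι → F₀) (t : F₀),
      f0 F₀ J x (q - t • p₁) = f0 F₀ J x q - t * f0 F₀ J x p₁ := fun x t => by
    rw [f0_sub_right, f0, f0, f0, Matrix.mulVec_smul, dotProduct_smul, smul_eq_mul]
  refine ⟨q - (f0 F₀ J w q * c) • p₁, ?_, ?_, ?_⟩ <;> rw [hlin]
  · rw [hx1, mul_one]
    linear_combination hxq
  · rw [hy1, hyq, mul_zero, sub_zero]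
  · linear_combination -(f0 F₀ J w q) * hc

include hA in
theorem exists_perp (hι : 6 ≤ Fintype.card ι) (x y w u v : ι → F₀) :
    ∃ z, f0 F₀ J z x = 0 ∧ f0 F₀ J z y = 0 ∧ f0 F₀ J z w = 0 ∧
      ∀ s t : F₀, z ≠ s • u + t • v := by
  obtain ⟨z, h1, h2, h3, h4⟩ := exists_perp3 hι (J *ᵥ x) (J *ᵥ y) (J *ᵥ w) u v
  rw [dotProduct_comm] at h1 h2 h3
  exact ⟨z, h1, h2, h3, h4⟩

include hA in
/-- A vector perpendicular to two vectors and outside two lines. -/
theorem exists_perp2 (hι : 4 ≤ Fintype.card ι) (x y u v : ι → F₀) :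
    ∃ z, f0 F₀ J z x = 0 ∧ f0 F₀ J z y = 0 ∧ (∀ t : F₀, z ≠ t • u) ∧ ∀ t : F₀, z ≠ t • v := by
  let Φ : (ι → F₀) →ₗ[F₀] (Fin 2 → F₀) := Matrix.mulVecLin (Matrix.of ![J *ᵥ x, J *ᵥ y])
  have h1 := LinearMap.finrank_range_add_finrank_ker Φ
  have h2 : Module.finrank F₀ (LinearMap.range Φ) ≤ 2 := by
    simpa using Submodule.finrank_le (LinearMap.range Φ)
  rw [Module.finrank_fintype_fun_eq_card] at h1
  have hperp : ∀ z ∈ LinearMap.ker Φ, f0 F₀ J z x = 0 ∧ f0 F₀ J z y = 0 := fun z hz => by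
    have h := LinearMap.mem_ker.mp hz
    exact ⟨(dotProduct_comm _ _).trans (congrFun h 0), (dotProduct_comm _ _).trans (congrFun h 1)⟩
  have hout : ∀ w : ι → F₀, ∃ z ∈ LinearMap.ker Φ, z ∉ F₀ ∙ w := fun w =>
    SetLike.not_le_iff_exists.mp fun hle => by
      have h3 := Submodule.finrank_mono hle
      have h4 : Module.finrank F₀ (F₀ ∙ w) ≤ 1 := by
        rcases eq_or_ne w 0 with rfl | hw
        · rw [Submodule.span_zero_singleton, finrank_bot]; exact zero_le_one
        · rw [finrank_span_singleton hw]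
      omega
  have key : ∃ z ∈ LinearMap.ker Φ, z ∉ F₀ ∙ u ∧ z ∉ F₀ ∙ v := by
    obtain ⟨z₁, hz₁, hz₁u⟩ := hout u
    obtain ⟨z₂, hz₂, hz₂v⟩ := hout v
    by_cases h1v : z₁ ∈ F₀ ∙ v
    · by_cases h2u : z₂ ∈ F₀ ∙ u
      · exact ⟨z₁ + z₂, add_mem hz₁ hz₂,
          fun h => hz₁u (by simpa using sub_mem h h2u),
          fun h => hz₂v (by simpa using sub_mem h h1v)⟩
      · exact ⟨z₂, hz₂, h2u, hz₂v⟩
    · exact ⟨z₁, hz₁, hz₁u, h1v⟩
  obtain ⟨z, hz, hu, hv⟩ := key
  exact ⟨z, (hperp z hz).1, (hperp z hz).2,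
    fun t e => hu (Submodule.mem_span_singleton.mpr ⟨t, e.symm⟩),
    fun t e => hv (Submodule.mem_span_singleton.mpr ⟨t, e.symm⟩)⟩

include hA hd in
/-- Transitivity of the rational symplectic group on non-zero vectors. -/
theorem move {P : (ι → F₀) → Prop}
    (hP : ∀ y : ι → F₀, ∀ c : F₀, ∀ v, P v → P (v + (c * f0 F₀ J v y) • y))
    {v w : ι → F₀} (hv : v ≠ 0) (hw : w ≠ 0) (h : P v) : P w := by
  have step : ∀ v w, P v → f0 F₀ J v w ≠ 0 → P w := by
    intro v w h hne
    have := hP (w - v) (f0 F₀ J v w)⁻¹ v h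
    rwa [f0_sub_right, f0_self hA, sub_zero, inv_mul_cancel₀ hne, one_smul,
      add_sub_cancel] at this
  by_cases hvw : f0 F₀ J v w = 0
  · obtain ⟨p, hp⟩ := exists_f0_one hd hv
    obtain ⟨p', hp'⟩ := exists_f0_one hd hw
    by_cases h1 : f0 F₀ J w p = 0
    · by_cases h2 : f0 F₀ J v p' = 0
      · refine step (p + p') w (step v _ h ?_) ?_
        · rw [f0, Matrix.mulVec_add, dotProduct_add, ← f0, ← f0, hp, h2, add_zero]
          exact one_ne_zero
        · rw [f0_skew hA, f0, Matrix.mulVec_add, dotProduct_add, ← f0, ← f0, h1, hp', zero_add]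
          exact neg_ne_zero.mpr one_ne_zero
      · refine step p' w (step v _ h h2) ?_
        rw [f0_skew hA, hp']
        exact neg_ne_zero.mpr one_ne_zero
    · refine step p w (step v _ h (by rw [hp]; exact one_ne_zero)) ?_
      rw [f0_skew hA]
      exact neg_ne_zero.mpr h1
  · exact step v w h hvw

include hA hd hN hLG in
theorem lon_all {c : F} {v : ι → F₀} (hv : v ≠ 0) (h : M[L, 0, rv F₀ v, c]) (w : ι → F₀)
    (hw : w ≠ 0) : M[L, 0, rv F₀ w, c] := by
  refine move hA hd (P := fun v => M[L, 0, rv F₀ v, c]) (fun y t v hv => ?_) hv hw h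
  have h1 := Mix.conj' hA hLG (rat hA hN 0 y t (f0_zero_left y)) hv
  simp only [show rv F₀ (0 : ι → F₀) = 0 from funext fun _ => rfl, f_zero_left, smul_zero,
    zero_smul, add_zero, mul_zero] at h1
  rw [show f F₀ J (rv F₀ v) 0 = 0 by rw [← zero_smul F (0 : ι → F), f_smul_right, zero_mul],
    zero_smul, add_zero] at h1
  rw [f_rv, add_zero] at h1
  exact h1

/-- Short root elements of coefficient `s` with rational centres. -/
def Good (L : Subgroup (GL ι F)) (s : F) : Prop :=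
  ∀ x y : ι → F₀, f0 F₀ J x y = 0 → M[L, s • rv F₀ x, rv F₀ y, 0]

/-- An irrational root element. -/
def CaseA (L : Subgroup (GL ι F)) : Prop :=
  (∃ v : ι → F₀, v ≠ 0 ∧ ∃ c : F, c ∉ F₀ ∧ M[L, 0, rv F₀ v, c]) ∨
  ∃ x y : ι → F₀, f0 F₀ J x y = 0 ∧ y ≠ 0 ∧ (∀ t : F₀, x ≠ t • y) ∧
    ∃ s : F, s ∉ F₀ ∧ M[L, s • rv F₀ x, rv F₀ y, 0]

include hA hd hN hLG in
theorem spread_left {x y : ι → F₀} (hxy : ∀ t : F₀, x ≠ t • y) {s : F}
    (h : M[L, s • rv F₀ x, rv F₀ y, 0]) (w : ι → F₀) (hw : f0 F₀ J w y = 0) :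
    M[L, s • rv F₀ w, rv F₀ y, 0] := by
  rcases eq_or_ne s 0 with rfl | hs
  · rw [zero_smul]; exact mix_one_zero _
  have hxy0 : f0 F₀ J x y = 0 := Subtype.ext (by
    have h0 := h.1
    rw [f_smul_left, f_rv, mul_eq_zero] at h0
    exact h0.resolve_left hs)
  have move1 : ∀ x w : ι → F₀, M[L, s • rv F₀ x, rv F₀ y, 0] → f0 F₀ J x y = 0 →
      f0 F₀ J w y = 0 → f0 F₀ J x w ≠ 0 → M[L, s • rv F₀ w, rv F₀ y, 0] := by
    intro x w h hx hw hxw
    have h1 := Mix.conj' hA hLG (rat hA hN 0 (w - x) (f0 F₀ J x w)⁻¹ (f0_zero_left _)) h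
    have e1 : f0 F₀ J y (w - x) = 0 := by
      rw [f0_sub_right, f0_perp hA hw, f0_perp hA hx, sub_zero]
    have e2 : f0 F₀ J x (w - x) = f0 F₀ J x w := by rw [f0_sub_right, f0_self hA, sub_zero]
    have hne : (f0 F₀ J x w : F) ≠ 0 := fun e => hxw (Subtype.ext e)
    simp only [show rv F₀ (0 : ι → F₀) = 0 from funext fun _ => rfl, smul_zero, zero_add,
      f_smul_left, f_rv, e1, e2, ZeroMemClass.coe_zero, mul_zero, zero_smul, add_zero,
      show ∀ v, f F₀ J v 0 = 0 from fun v => by rw [f_skew hA, f_zero_left, neg_zero]] at h1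
    convert h1 using 1
    rw [show rv F₀ (w - x) = rv F₀ w - rv F₀ x from rfl]
    simp only [smul_sub, InvMemClass.coe_inv]
    match_scalars <;> field_simp <;> ring
  by_cases hwy : ∀ t : F₀, w ≠ t • y
  · by_cases hxw : f0 F₀ J x w = 0
    · obtain ⟨p₁, a1, b1⟩ := exists_f0_pair hd hxy
      obtain ⟨p₂, a2, b2⟩ := exists_f0_pair hd hwy
      obtain ⟨p, hp, hxp, hwp⟩ : ∃ p, f0 F₀ J y p = 0 ∧ f0 F₀ J x p ≠ 0 ∧ f0 F₀ J w p ≠ 0 := by
        by_cases c1 : f0 F₀ J w p₁ = 0
        · by_cases c2 : f0 F₀ J x p₂ = 0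
          · have hadd : ∀ v, f0 F₀ J v (p₁ + p₂) = f0 F₀ J v p₁ + f0 F₀ J v p₂ := fun v => by
              rw [f0, Matrix.mulVec_add, dotProduct_add]; rfl
            exact ⟨p₁ + p₂, by rw [hadd, a1, a2, add_zero],
              by rw [hadd, b1, c2, add_zero]; exact one_ne_zero,
              by rw [hadd, c1, b2, zero_add]; exact one_ne_zero⟩
          · exact ⟨p₂, a2, c2, by rw [b2]; exact one_ne_zero⟩
        · exact ⟨p₁, a1, by rw [b1]; exact one_ne_zero, c1⟩
      refine move1 p w (move1 x p h hxy0 (f0_perp hA hp) hxp) (f0_perp hA hp) hw ?_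
      rw [f0_skew hA]
      exact neg_ne_zero.mpr hwp
    · exact move1 x w h hxy0 hw hxw
  · push Not at hwy
    obtain ⟨t, rfl⟩ := hwy
    obtain ⟨p, a1, b1⟩ := exists_f0_pair hd hxy
    have hne : ∀ t : F₀, f0 F₀ J p (x + t • y) ≠ 0 := fun t => by
      rw [f0, Matrix.mulVec_add, dotProduct_add, Matrix.mulVec_smul, dotProduct_smul, ← f0, ← f0,
        f0_skew hA p x, f0_skew hA p y, a1, b1]
      simp
    have h' := move1 p (x + t • y)
      (move1 x p h hxy0 (f0_perp hA a1) (by rw [b1]; exact one_ne_zero)) (f0_perp hA a1)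
      (by rw [f0_add_left, hxy0, hw, add_zero]) (hne t)
    have h5 := Mix.mul hA h' (Mix.neg hA h)
    rw [rv_add, ← neg_smul, f_smul_left, f_smul_right, f_add_right, hA, f_rv,
      f0_skew hA x (t • y), f0_smul_left, f0_perp hA hxy0, mul_zero, neg_zero] at h5
    simpa using h5

theorem mix_flip (hA : Alt F₀ J) {x y : ι → F} {s : F} (h : M[L, s • x, y, 0]) :
    M[L, s • y, x, 0] := by
  by_cases hs : s = 0
  · rw [hs, zero_smul]
    exact mix_one_zero _
  have := (Mix.symm hA h).smul hs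
  rwa [zero_mul] at this

include hA hd hN hLG in
theorem good_of_short (hι : 4 ≤ Fintype.card ι) {x y : ι → F₀} (hy : y ≠ 0)
    (hxy : ∀ t : F₀, x ≠ t • y) {s : F} (h : M[L, s • rv F₀ x, rv F₀ y, 0]) :
    Good (F₀ := F₀) (J := J) L s := by
  intro p q hpq
  by_cases hq : q = 0
  · rw [hq, show rv F₀ (0 : ι → F₀) = 0 from funext fun _ => rfl]
    exact Mix.symm hA (mix_one_zero _)
  obtain ⟨z, h1, h2, h3, h4⟩ := exists_perp2 hA hι y q y q
  have hy' := mix_flip hA (spread_left hA hd hN hLG hxy h z h1)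
  have hyz : ∀ t : F₀, y ≠ t • z := fun t e => by
    rcases eq_or_ne t 0 with rfl | ht
    · exact hy (by rw [e, zero_smul])
    · exact h3 t⁻¹ (by rw [e, smul_smul, inv_mul_cancel₀ ht, one_smul])
  have hq' := mix_flip hA (spread_left hA hd hN hLG hyz hy' q (f0_perp hA h2))
  exact spread_left hA hd hN hLG h4 hq' p hpq

include hA hd hN hLG in
theorem good_of_long (hι : 4 ≤ Fintype.card ι) {v : ι → F₀} (hv : v ≠ 0) {c : F}
    (h : M[L, 0, rv F₀ v, c]) : Good (F₀ := F₀) (J := J) L c := by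
  obtain ⟨w, h1, -, h4, -⟩ := exists_perp2 hA hι v v v v
  have hw : w ≠ 0 := fun e => h4 0 (by rw [e, zero_smul])
  have hwv : w + v ≠ 0 := fun e => h4 (-1) (by
    rw [eq_neg_of_add_eq_zero_left e, neg_one_smul])
  have h2 := lon_all hA hd hN hLG hv h (w + v) hwv
  rw [rv_add] at h2
  have h3 := Mix.mul hA (mix_of_lon hA (by rw [f_rv, h1]; rfl) h2 (lon_all hA hd hN hLG hv h w hw))
    (Mix.neg hA h)
  rw [neg_zero, f_zero_left, add_zero, add_zero, add_neg_cancel] at h3
  exact good_of_short hA hd hN hLG hι hv h4 h3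

/-- The isometry group of a form is generated by its transvections. -/
theorem G_le_of_lon (hd' : (J.map F₀.subtype).det ≠ 0) (hA : Alt F₀ J)
    (h : ∀ (u : ι → F) (c : F), M[L, 0, u, c]) : G F₀ J ≤ L := by
  let B : LinearMap.BilinForm F (ι → F) := Matrix.toBilin' (J.map F₀.subtype)
  have hB : ∀ u v, B u v = f F₀ J u v := fun u v => by
    simp only [B, Matrix.toBilin'_apply']; rfl
  have hBA : B.IsAlt := fun u => by rw [hB]; exact hA u
  have hBn : B.Nondegenerate := LinearMap.BilinForm.nondegenerate_toBilin'_of_det_ne_zero' _ hd'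
  let φ : GL ι F →* ((ι → F) ≃ₗ[F] (ι → F)) :=
    { toFun := fun g => LinearEquiv.ofLinear (Matrix.toLin' (g : Matrix ι ι F))
        (Matrix.toLin' ((g⁻¹ : GL ι F) : Matrix ι ι F))
        (by rw [← Matrix.toLin'_mul, ← Units.val_mul, mul_inv_cancel, Units.val_one,
          Matrix.toLin'_one])
        (by rw [← Matrix.toLin'_mul, ← Units.val_mul, inv_mul_cancel, Units.val_one,
          Matrix.toLin'_one])
      map_one' := LinearEquiv.ext fun x => by simp
      map_mul' := fun g g' => LinearEquiv.ext fun x => (Matrix.mulVec_mulVec x _ _).symm }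
  have hle : Cfsg.Lib.Linear.Symp.T hBA ⊥ ≤ L.map φ := by
    rw [Cfsg.Lib.Linear.Symp.T, Subgroup.closure_le]
    rintro _ ⟨v, -, c, rfl⟩
    obtain ⟨-, g, hg, hge⟩ := h v c
    refine ⟨g, hg, LinearEquiv.ext fun x => ?_⟩
    show (g : Matrix ι ι F) *ᵥ x = _
    rw [Cfsg.Lib.Linear.Symp.tv_apply, hge, mix_mulVec, hB]
    simp [show f F₀ J x 0 = 0 by rw [← zero_smul F (0 : ι → F), f_smul_right, zero_mul]]
  rw [← Cfsg.Lib.Linear.Symp.iso_eq_T hBn hBA] at hle
  intro g hg
  have hφ : φ g ∈ Cfsg.Lib.Linear.Symp.iso B := fun u v => by rw [hB, hB]; exact mem_G.mp hg u v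
  obtain ⟨g', hg', he⟩ := hle hφ
  have : g' = g := by
    refine Units.ext (Matrix.toLin'.injective (LinearMap.ext fun x => ?_))
    exact LinearEquiv.congr_fun he x
  rwa [← this]

include hA hd hN hLG in
theorem caseA_full [Finite F] {r : ℕ} (hr : r.Prime) (hcard : Nat.card F = Nat.card F₀ ^ r)
    (hι : Big ι F) (hC : CaseA (F₀ := F₀) (J := J) L) : G F₀ J ≤ L := by
  obtain ⟨c, hc, hcg⟩ : ∃ c : F, c ∉ F₀ ∧ Good (F₀ := F₀) (J := J) L c := by
    rcases hC with ⟨v, hv, c, hc, h⟩ | ⟨x, y, -, hy, hxy, s, hs, h⟩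
    · exact ⟨c, hc, good_of_long hA hd hN hLG hι.four hv h⟩
    · exact ⟨s, hs, good_of_short hA hd hN hLG hι.four hy hxy h⟩
  have hne : Nonempty ι := Fintype.card_pos_iff.mp (by have := hι.four; omega)
  obtain ⟨i₀⟩ := hne
  let S : Subalgebra F₀ F :=
    { carrier := {x | Good (F₀ := F₀) (J := J) L x}
      mul_mem' := by
        intro s t hs ht
        let x : ι → F₀ := Pi.single i₀ 1
        have hx : x ≠ 0 := fun e => one_ne_zero (α := F₀) (by simpa [x] using congrFun e i₀)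
        obtain ⟨y, hy⟩ := exists_f0_one hd hx
        obtain ⟨z, z1, z2, zx, zy⟩ := exists_perp2 hA hι.four x y x y
        have hz : z ≠ 0 := fun e => zx 0 (by rw [e, zero_smul])
        rcases hι with hι | ⟨hι, h20⟩
        swap
        · have h1 := Mix.conj' hA hLG (hs z y z2) (ht x z (f0_perp hA z1))
          simp only [f_smul_left, f_smul_right, f_rv, hy, f0_perp hA z1, z2, f0_self hA z,
            OneMemClass.coe_one, ZeroMemClass.coe_zero, mul_one, mul_zero, zero_mul, zero_smul,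
            add_zero, smul_smul] at h1
          have h2 := Mix.mul hA (Mix.neg hA (ht x z (f0_perp hA z1))) h1
          have e : f F₀ J (t • rv F₀ x + (t * s) • rv F₀ z) (-(t • rv F₀ x)) = 0 := by
            simp [← neg_smul, f_add_left, f_smul_left, f_smul_right, hA (rv F₀ x), f_rv, z1]
          rw [e, neg_zero, add_zero, add_zero, neg_add_cancel_left, mul_comm t s] at h2
          obtain ⟨-, g, hg, hge⟩ := h2
          have hlg := good_of_long hA hd hN hLG (by omega) hz (c := 2 * (s * t))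
            ⟨f_zero_left _, g, hg, by
              rw [hge, mixMat, mixMat, E_smul_left, E_smul_right, E_zero_left, E_zero_right,
                zero_smul, add_zero, add_zero, add_zero, ← add_smul, two_mul]⟩
          intro x' y' hxy'
          have h3 := hlg ((2 : F₀)⁻¹ • x') y' (by rw [f0_smul_left, hxy', mul_zero])
          rw [rv_smul, smul_smul] at h3
          convert h3 using 2
          rw [show (((2 : F₀)⁻¹ : F₀) : F) = (2 : F)⁻¹ from
              (map_inv₀ F₀.subtype (2 : F₀)).trans (by rw [map_ofNat]),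
            mul_comm (2 : F) _, mul_assoc, mul_inv_cancel₀ h20, mul_one]
        obtain ⟨w, w1, w2, w3, w4⟩ := exists_perp hA hι x y z z z
        have hwz : ∀ c : F₀, w ≠ c • z := fun c e => w4 c 0 (by simp [e])
        have h1 := Mix.conj' hA hLG (hs w y w2) (ht x z (f0_perp hA z1))
        simp only [f_smul_left, f_smul_right, f_rv, hy, f0_perp hA w1, z2, f0_perp hA w3,
          OneMemClass.coe_one, ZeroMemClass.coe_zero, mul_one, mul_zero, zero_mul, zero_smul,
          add_zero, smul_smul] at h1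
        have h2 := Mix.mul hA (Mix.neg hA (ht x z (f0_perp hA z1))) h1
        have e : f F₀ J (t • rv F₀ x + (t * s) • rv F₀ w) (-(t • rv F₀ x)) = 0 := by
          simp [← neg_smul, f_add_left, f_smul_left, f_smul_right, hA (rv F₀ x), f_rv, w1]
        rw [e, neg_zero, add_zero, add_zero, neg_add_cancel_left, mul_comm t s] at h2
        exact good_of_short hA hd hN hLG (by omega) hz hwz h2
      add_mem' := by
        intro s t hs ht x y hxy
        have h := Mix.mul hA (hs x y hxy) (ht x y hxy)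
        rw [f_smul_left, f_smul_right, hA, mul_zero, mul_zero, add_zero, add_zero,
          ← add_smul] at h
        exact h
      algebraMap_mem' := by
        intro t x y hxy
        exact rat hA hN (t • x) y 0 (by rw [f0_smul_left, hxy, mul_zero]) }
  have hfr : (Module.finrank F₀ F).Prime := by
    have h1 := Module.natCard_eq_pow_finrank (K := F₀) (V := F)
    rw [hcard] at h1
    rwa [← Nat.pow_right_injective Finite.one_lt_card h1]
  haveI := Subalgebra.isSimpleOrder_of_finrank_prime F₀ F hfr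
  have htop : S = ⊤ := by
    refine (eq_bot_or_eq_top S).resolve_left fun hb => hc ?_
    have hcS : c ∈ S := hcg
    rw [hb, Algebra.mem_bot] at hcS
    obtain ⟨t, ht⟩ := hcS
    exact ht ▸ t.2
  have hall : ∀ s, Good (F₀ := F₀) (J := J) L s := fun s => (show s ∈ S by rw [htop]; exact Algebra.mem_top)
  -- long root elements with square coefficient
  have hsq : ∀ v : ι → F₀, v ≠ 0 → ∀ s : F, M[L, 0, rv F₀ v, s * s] := by
    intro v hv s
    rcases eq_or_ne s 0 with rfl | hs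
    · rw [mul_zero]; exact mix_one_zero _
    obtain ⟨b, b1, -, b2, -⟩ := exists_perp2 hA hι.four v v v v
    obtain ⟨b', hb', hb''⟩ := exists_f0_pair hd (x := b) (y := v) b2
    have hb'n : f0 F₀ J b' b = -1 := by rw [f0_skew hA, hb'']
    have hb'v : f0 F₀ J b' v = 0 := f0_perp hA hb'
    have hl := rat hA hN 0 b' 1 (f0_zero_left b')
    rw [show rv F₀ (0 : ι → F₀) = 0 from funext fun _ => rfl, OneMemClass.coe_one] at hl
    have h1 := Mix.conj' hA hLG (hall (-s) v b (f0_perp hA b1)) hl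
    simp only [f_zero_left, f_smul_right, f_rv, hb'n, hb'v, ZeroMemClass.coe_zero, mul_zero,
      zero_mul, zero_smul, add_zero, smul_smul, NegMemClass.coe_neg, OneMemClass.coe_one,
      neg_mul, one_mul, neg_neg] at h1
    have h2 := mix_of_lon hA (by rw [f_smul_right, f_rv, hb'v]; simp) h1 hl
    rw [one_smul] at h2
    have h3 := h2.smul hs
    rw [one_mul] at h3
    have h4 := Mix.neg hA (hall s b' v hb'v)
    have h5 := Mix.mul hA h3 h4
    rw [add_neg_cancel, neg_zero, add_zero, ← neg_smul, f_smul_left, f_smul_right, hA] at h5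
    simpa using h5
  have hlong : ∀ v : ι → F₀, v ≠ 0 → ∀ c : F, M[L, 0, rv F₀ v, c] := by
    intro v hv c
    by_cases h2 : (2 : F) = 0
    · haveI : CharP F 2 := CharTwo.of_one_ne_zero_of_two_eq_zero one_ne_zero h2
      obtain ⟨s, hs⟩ := FiniteField.isSquare_of_char_two (ringChar.eq F 2) c
      rw [hs]
      exact hsq v hv s
    · have h := Mix.mul hA (hsq v hv ((c + 1) / 2)) (Mix.neg hA (hsq v hv ((c - 1) / 2)))
      rw [neg_zero, add_zero, f_zero_left, add_zero] at h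
      convert h using 2
      field_simp
      ring
  -- all centres
  have hzero : ∀ c : F, M[L, 0, (0 : ι → F), c] := fun c =>
    ⟨f_zero_left _, 1, L.one_mem, by simp [mixMat, E_zero_left]⟩
  have hstep : ∀ (u : ι → F), (∀ c, M[L, 0, u, c]) → ∀ (lam : F) (w : ι → F₀), w ≠ 0 →
      ∀ c, M[L, 0, u + lam • rv F₀ w, c] := by
    intro u hu lam w hw c
    by_cases hfu : f F₀ J u (rv F₀ w) = 0
    · by_cases hex : ∃ y : ι → F₀, f0 F₀ J y w = 0 ∧ f F₀ J u (rv F₀ y) ≠ 0
      · obtain ⟨y, hyw, hyu⟩ := hex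
        have hg := hall (lam / f F₀ J u (rv F₀ y)) w y (f0_perp hA hyw)
        have h1 := Mix.conj' hA hLG hg (hu c)
        simp only [f_zero_left, f_smul_right, hfu, mul_zero, zero_mul, zero_smul, add_zero,
          smul_smul] at h1
        rwa [mul_div_cancel₀ _ hyu] at h1
      · push Not at hex
        have hψ : J *ᵥ w ≠ 0 := fun e => hw (Matrix.mulVec_injective_of_isUnit
          ((Matrix.isUnit_iff_isUnit_det J).mpr (isUnit_iff_ne_zero.mpr hd))
          (by rw [e, Matrix.mulVec_zero]))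
        obtain ⟨μ, hμ⟩ := exists_smul_of_perp F₀ (a := a F₀ J u) hψ fun y hy => by
          have h := hex y (by rw [f0, dotProduct_comm]; exact hy)
          rw [f_skew hA, neg_eq_zero, f, dotProduct_comm] at h
          exact h
        have hu' : u = μ • rv F₀ w := by
          rw [← a_rv, ← a_smul] at hμ
          refine Matrix.mulVec_injective_of_isUnit ((Matrix.isUnit_iff_isUnit_det _).mpr
            (isUnit_iff_ne_zero.mpr ?_)) hμ
          rw [← RingHom.mapMatrix_apply, ← RingHom.map_det]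
          exact fun e => hd (F₀.subtype.injective (e.trans (map_zero _).symm))
        rw [hu', ← add_smul]
        exact lon_smul (hlong w hw _)
    · have hg := hlong w hw (lam / f F₀ J u (rv F₀ w))
      have h1 := Mix.conj' hA hLG hg (hu c)
      simp only [f_zero_left, smul_zero, zero_smul, add_zero, zero_add, mul_zero] at h1
      rw [show f F₀ J u 0 = 0 by rw [← zero_smul F (0 : ι → F), f_smul_right, zero_mul],
        zero_smul, add_zero, div_mul_cancel₀ _ hfu] at h1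
      exact h1
  refine G_le_of_lon ?_ hA ?_
  · rw [← RingHom.mapMatrix_apply, ← RingHom.map_det]
    exact fun e => hd (F₀.subtype.injective (e.trans (map_zero _).symm))
  intro u
  rw [pi_eq_sum_univ' u]
  induction (Finset.univ : Finset ι) using Finset.induction with
  | empty => intro c; rw [Finset.sum_empty]; exact hzero c
  | insert i T hi ih =>
    rw [Finset.sum_insert hi, add_comm]
    have h := hstep _ ih (u i) (Pi.single i 1)
      (fun e => one_ne_zero (α := F₀) (by simpa using congrFun e i))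
    rwa [rv_single] at h

include hA hd hN hLG in
theorem products_rat (hι : Big ι F) (hC : ¬CaseA (F₀ := F₀) (J := J) L) {u : ι → F}
    (hu : M[L, 0, u, 1]) {x : ι → F₀} (hx : x ≠ 0) (hxu : f F₀ J u (rv F₀ x) = 0)
    (i k : ι) : u i * u k ∈ F₀ := by
  have main : ∀ (x : ι → F₀), x ≠ 0 → f F₀ J u (rv F₀ x) = 0 → ∀ y y', f0 F₀ J y x = 0 →
      f0 F₀ J y' x = 0 → f F₀ J u (rv F₀ y') * f F₀ J u (rv F₀ y) ∈ F₀ := by
    intro x hx hxu y y₀ hy hy₀
    set β := f F₀ J u (rv F₀ y₀) with hβdef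
    set γ := f F₀ J u (rv F₀ y) with hγdef
    by_cases hyx : ∃ t : F₀, y = t • x
    · obtain ⟨t, rfl⟩ := hyx
      rw [hγdef, rv_smul, f_smul_right, hxu, mul_zero, mul_zero]
      exact F₀.zero_mem
    push Not at hyx
    rcases eq_or_ne β 0 with hβ | hβ
    · rw [hβ, zero_mul]; exact F₀.zero_mem
    -- a mixed element with centres `u` and `x`
    have h1 := Mix.conj' hA hLG (rat hA hN x y₀ 0 (f0_perp hA hy₀)) hu
    simp only [f_zero_left, hxu, ZeroMemClass.coe_zero, zero_mul, zero_smul, add_zero] at h1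
    have h2 := mix_of_lon hA (by rw [f_smul_right, hxu, mul_zero]) h1 hu
    rw [one_smul] at h2
    have hU := h2.smul hβ
    -- move `u` along `y`
    have h3 := Mix.conj' hA hLG (rat hA hN 0 y 1 (f0_zero_left y)) hU
    simp only [show rv F₀ (0 : ι → F₀) = 0 from funext fun _ => rfl, smul_zero, zero_add,
      OneMemClass.coe_one, one_mul, f_smul_left, f_rv, f0_perp hA hy, ZeroMemClass.coe_zero,
      zero_smul, add_zero] at h3
    rw [show f F₀ J u 0 = 0 by rw [← zero_smul F (0 : ι → F), f_smul_right, zero_mul],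
      show f F₀ J (rv F₀ x) 0 = 0 by rw [← zero_smul F (0 : ι → F), f_smul_right, zero_mul]] at h3
    simp only [mul_zero, zero_smul, add_zero] at h3
    have h4 := Mix.mul hA (Mix.neg hA hU) h3
    rw [neg_add_cancel_left] at h4
    -- move `y` by a perpendicular vector
    obtain ⟨p₀, hxp, hyp⟩ := exists_f0_pair hd hyx
    rcases hι with hι | ⟨hι, h20⟩
    swap
    · -- in dimension four a commutator is used instead
      obtain ⟨l₄, h4⟩ : ∃ l, M[L, (β * γ) • rv F₀ y, rv F₀ x, l] := ⟨_, h4⟩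
      have h5 := Mix.conj' hA hLG (rat hA hN 0 p₀ 1 (f0_zero_left p₀)) h4
      simp only [show rv F₀ (0 : ι → F₀) = 0 from funext fun _ => rfl, smul_zero, zero_add,
        OneMemClass.coe_one, one_mul, f_smul_left, f_rv, hyp, hxp, ZeroMemClass.coe_zero,
        mul_one, mul_zero, zero_smul, add_zero,
        show ∀ v, f F₀ J v 0 = 0 from fun v => by rw [f_skew hA, f_zero_left, neg_zero]] at h5
      have h6 := Mix.mul hA (Mix.neg hA h4) h5
      rw [neg_add_cancel_left] at h6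
      have hpy : f F₀ J (rv F₀ p₀) (rv F₀ y) = -1 := by
        rw [f_skew hA, f_rv, hyp]; rfl
      have e : f F₀ J ((β * γ) • rv F₀ y + (β * γ) • rv F₀ p₀) (-((β * γ) • rv F₀ y)) =
          (β * γ) * (β * γ) := by
        simp [← neg_smul, f_add_left, f_smul_left, f_smul_right, hA (rv F₀ y), hpy]
      rw [e, neg_add_cancel, zero_add] at h6
      set K := β * γ with hK
      have hxp' : f F₀ J (rv F₀ x) (rv F₀ p₀) = 0 := by rw [f_rv, hxp]; rfl
      have hpx : f F₀ J (rv F₀ p₀) (rv F₀ x) = 0 := by rw [f_skew hA, hxp', neg_zero]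
      have hxy' : f F₀ J (rv F₀ x) (rv F₀ y) = 0 := by rw [f_rv, f0_perp hA hy]; rfl
      have h7 := Mix.conj' hA hLG h4 h6
      simp only [f_smul_left, f_smul_right, hpx, hpy, hxy', hA (rv F₀ x), mul_zero, zero_smul,
        zero_add, add_zero, mul_neg, mul_one, neg_smul] at h7
      have h8 := Mix.mul hA (Mix.neg hA h6) h7
      obtain ⟨-, g, hg, hge⟩ := h8
      have hKK : K * K ∈ F₀ := by
        by_contra hm
        refine hC (Or.inl ⟨x, hx, 2 * -(K * K), fun h => hm ?_, f_zero_left _, g, hg, ?_⟩)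
        · have h2r : (2 : F) ∈ F₀ := by
            rw [← one_add_one_eq_two]; exact F₀.add_mem F₀.one_mem F₀.one_mem
          have := F₀.neg_mem (F₀.mul_mem (F₀.inv_mem h2r) h)
          rwa [inv_mul_cancel_left₀ h20, neg_neg] at this
        · have e0 : -(K * K) + K * K + f F₀ J (K • rv F₀ p₀ + -((K * K) • rv F₀ x))
              (-(K • rv F₀ p₀)) = 0 := by
            simp [← neg_smul, f_add_left, f_smul_left, f_smul_right, hA (rv F₀ p₀), hxp']
          rw [hge, e0, neg_add_cancel_left, mixMat, mixMat, ← neg_smul, E_smul_left,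
            E_smul_right, E_zero_left, E_zero_right, zero_smul, add_zero, add_zero, add_zero,
            ← add_smul, two_mul]
      have h9 := Mix.mul hA (rat hA hN 0 x (-⟨_, hKK⟩ : F₀) (f0_zero_left x)) h6
      rw [show rv F₀ (0 : ι → F₀) = 0 from funext fun _ => rfl, zero_add, NegMemClass.coe_neg,
        show f F₀ J (K • rv F₀ p₀) 0 = 0 by rw [f_skew hA, f_zero_left, neg_zero], add_zero,
        neg_add_cancel] at h9
      by_contra hm
      refine hC (Or.inr ⟨p₀, x, f0_perp hA hxp, hx, fun t e' => ?_, K, hm, h9⟩)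
      rw [e', f0, Matrix.mulVec_smul, dotProduct_smul, ← f0, hy, smul_zero] at hyp
      exact zero_ne_one hyp
    obtain ⟨w, w1, w2, w3, w4⟩ := exists_perp hA hι x y p₀ x x
    have h5 := Mix.conj' hA hLG (rat hA hN w p₀ 0 w3) h4
    simp only [f_smul_left, f_rv, hyp, f0_perp hA w1, f0_perp hA w2, hxp, OneMemClass.coe_one,
      ZeroMemClass.coe_zero, mul_one, mul_zero, zero_mul, zero_smul, add_zero] at h5
    have h6 := Mix.mul hA (Mix.neg hA h4) h5
    rw [neg_add_cancel_left] at h6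
    have e : f F₀ J ((β * γ) • rv F₀ y + (β * γ) • rv F₀ w) (-((β * γ) • rv F₀ y)) = 0 := by
      simp [← neg_smul, f_add_left, f_smul_left, f_smul_right, hA (rv F₀ y), f_rv, w2]
    rw [e, add_zero, neg_add_cancel] at h6
    by_contra hm
    exact hC (Or.inr ⟨w, x, w1, hx, fun t e' => w4 t 0 (by rw [zero_smul, add_zero]; exact e'),
      _, hm, h6⟩)
  have hγ : ∀ y y' : ι → F₀, f F₀ J u (rv F₀ y) * f F₀ J u (rv F₀ y') ∈ F₀ := by
    intro y y'
    by_cases h0 : ∀ z : ι → F₀, f0 F₀ J z x = 0 → f F₀ J u (rv F₀ z) = 0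
    · have hψ : J *ᵥ x ≠ 0 := fun e => hx (Matrix.mulVec_injective_of_isUnit
        ((Matrix.isUnit_iff_isUnit_det J).mpr (isUnit_iff_ne_zero.mpr hd))
        (by rw [e, Matrix.mulVec_zero]))
      obtain ⟨μ, hμ⟩ := exists_smul_of_perp F₀ (a := a F₀ J u) hψ fun z hz => by
        have h := h0 z (by rw [f0, dotProduct_comm]; exact hz)
        rw [f_skew hA, neg_eq_zero, f, dotProduct_comm] at h
        exact h
      have hu' : u = μ • rv F₀ x := by
        rw [← a_rv, ← a_smul] at hμ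
        refine Matrix.mulVec_injective_of_isUnit ((Matrix.isUnit_iff_isUnit_det _).mpr
          (isUnit_iff_ne_zero.mpr ?_)) hμ
        rw [← RingHom.mapMatrix_apply, ← RingHom.map_det]
        exact fun e => hd (F₀.subtype.injective (e.trans (map_zero _).symm))
      have hμμ : μ * μ ∈ F₀ := by
        by_contra hm
        rcases eq_or_ne μ 0 with rfl | hμ0
        · exact hm (by rw [mul_zero]; exact F₀.zero_mem)
        obtain ⟨-, g, hg, hge⟩ := hu
        refine hC (Or.inl ⟨x, hx, μ * μ, hm, f_zero_left _, g, hg, ?_⟩)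
        rw [hge, hu', mixMat, mixMat]
        simp [E_zero_left, E_zero_right, E_smul_left, E_smul_right, smul_smul]
      rw [hu', f_smul_left, f_smul_left, f_rv, f_rv, mul_mul_mul_comm]
      exact F₀.mul_mem hμμ (F₀.mul_mem (f0 F₀ J x y).2 (f0 F₀ J x y').2)
    push Not at h0
    obtain ⟨y₀, hy₀, hβ⟩ := h0
    set β := f F₀ J u (rv F₀ y₀)
    rcases hι with hι | ⟨hι, h20⟩
    swap
    · -- in dimension four `u` lies over a rational singular plane
      obtain ⟨q, q1, q2⟩ := exists_f0_pair hd (x := y₀) (y := x) fun t e => hβ (by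
        rw [show β = f F₀ J u (rv F₀ y₀) from rfl, e, rv_smul, f_smul_right, hxu, mul_zero])
      obtain ⟨z, hzx, hzq, hzn, -⟩ := exists_perp2 hA (by omega) x q x x
      set c₂ : F₀ := ⟨_, main x hx hxu y₀ y₀ hy₀ hy₀⟩ with hc₂
      set cz : F₀ := ⟨_, main x hx hxu z y₀ hzx hy₀⟩ with hcz
      have hc0 : c₂ ≠ 0 := fun e => mul_ne_zero hβ hβ (congrArg Subtype.val e)
      obtain ⟨x', hx'x, hx'u, hx'n⟩ : ∃ x', f0 F₀ J x' x = 0 ∧ f F₀ J u (rv F₀ x') = 0 ∧
          ∀ t : F₀, x' ≠ t • x := by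
        refine ⟨c₂ • z - cz • y₀, ?_, ?_, fun t e => ?_⟩
        · rw [f0_sub_left, f0_smul_left, f0_smul_left, hzx, hy₀, mul_zero, mul_zero, sub_zero]
        · rw [show ∀ (p q : ι → F₀), rv F₀ (p - q) = rv F₀ p - rv F₀ q from fun _ _ => rfl, rv_smul,
            rv_smul, sub_eq_add_neg, ← neg_smul, f_add_right, f_smul_right, f_smul_right]
          show β * β * _ + -(β * _) * β = 0
          ring
        · have e' := congrArg (fun v => f0 F₀ J v q) e
          simp only [f0_sub_left, f0_smul_left, hzq, q1, q2, mul_zero, mul_one, zero_sub,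
            neg_eq_zero] at e'
          rw [e', zero_smul, sub_zero] at e
          refine hzn (c₂⁻¹ * t) ?_
          rw [← smul_smul, ← e, smul_smul, inv_mul_cancel₀ hc0, one_smul]
      have hx'0 : x' ≠ 0 := fun e => hx'n 0 (by rw [e, zero_smul])
      obtain ⟨p, hpx', hxp⟩ := exists_f0_pair hd (x := x) (y := x') fun t e => by
        rcases eq_or_ne t 0 with rfl | ht
        · exact hx (by rw [e, zero_smul])
        · exact hx'n t⁻¹ (by rw [e, smul_smul, inv_mul_cancel₀ ht, one_smul])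
      obtain ⟨p', hpx, hx'p⟩ := exists_f0_pair hd (x := x') (y := x) hx'n
      set a := f F₀ J u (rv F₀ p) with hadef
      set b := f F₀ J u (rv F₀ p') with hbdef
      have haa : a * a ∈ F₀ := main x' hx'0 hx'u p p (f0_perp hA hpx') (f0_perp hA hpx')
      have hbb : b * b ∈ F₀ := main x hx hxu p' p' (f0_perp hA hpx) (f0_perp hA hpx)
      have hspan : ∀ v : ι → F₀, ∃ c₁ c₂ c₃ c₄ : F₀,
          v = c₁ • x + c₂ • x' + c₃ • p + c₄ • p' := by
        intro v
        have li : LinearIndependent F₀ ![x, x', p, p'] := by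
          rw [Fintype.linearIndependent_iff]
          intro g hg
          rw [Fin.sum_univ_four] at hg
          simp only [Matrix.cons_val] at hg
          have hv : ∀ w, f0 F₀ J (g 0 • x + g 1 • x' + g 2 • p + g 3 • p') w = 0 := fun w => by
            rw [hg, f0_zero_left]
          have u1 := hv x
          have u2 := hv x'
          simp only [f0_add_left, f0_smul_left, f0_self hA, hx'x, f0_skew hA p x, hxp,
            f0_perp hA hpx, f0_perp hA hpx', f0_skew hA p' x', hx'p, f0_perp hA hx'x, mul_zero,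
            add_zero, zero_add, mul_neg, mul_one, neg_eq_zero] at u1 u2
          have u3 := hv p
          have u4 := hv p'
          simp only [f0_add_left, f0_smul_left, u1, u2, hxp, hpx, hpx', hx'p, zero_mul, mul_zero,
            add_zero, zero_add, mul_one] at u3 u4
          intro i
          fin_cases i
          exacts [u3, u4, u1, u2]
        have htop := li.span_eq_top_of_card_eq_finrank
          (by rw [Fintype.card_fin, Module.finrank_fintype_fun_eq_card, hι])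
        obtain ⟨g, hg⟩ := (Submodule.mem_span_range_iff_exists_fun F₀).mp
          (htop ▸ Submodule.mem_top : v ∈ _)
        refine ⟨g 0, g 1, g 2, g 3, ?_⟩
        rw [← hg, Fin.sum_univ_four]
        simp only [Matrix.cons_val]
      have g0 : ∀ {v w : ι → F₀}, f0 F₀ J v w = 0 → f F₀ J (rv F₀ v) (rv F₀ w) = 0 :=
        fun h => by rw [f_rv, h]; rfl
      have g1 : ∀ {v w : ι → F₀}, f0 F₀ J v w = 1 → f F₀ J (rv F₀ v) (rv F₀ w) = 1 :=
        fun h => by rw [f_rv, h]; rfl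
      have hfu : ∀ v, f F₀ J u (rv F₀ v) =
          f F₀ J (a • rv F₀ x + b • rv F₀ x') (rv F₀ v) := by
        intro v
        obtain ⟨c₁, c₂, c₃, c₄, rfl⟩ := hspan v
        simp only [rv_add, rv_smul, f_add_left, f_add_right, f_smul_left, f_smul_right, hxu, hx'u,
          hA (rv F₀ x), hA (rv F₀ x'), g0 hx'x, g0 (f0_perp hA hx'x), g0 hpx, g0 hpx', g1 hxp,
          g1 hx'p, ← hadef, ← hbdef]
        ring
      have hcoord : ∀ (w : ι → F) l, f F₀ J w (rv F₀ (J⁻¹ *ᵥ Pi.single l 1)) = w l := by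
        intro w l
        rw [f, a_rv, Matrix.mulVec_mulVec, Matrix.mul_nonsing_inv _ (isUnit_iff_ne_zero.mpr hd),
          Matrix.one_mulVec, rv_single, dotProduct_single, mul_one]
      have hu' : u = a • rv F₀ x + b • rv F₀ x' := funext fun l => by
        rw [← hcoord u l, hfu, hcoord]
      have hab : a * b ∈ F₀ := by
        obtain ⟨-, g, hg, hge⟩ := hu
        obtain ⟨-, g₁, hg₁, hge₁⟩ := Mix.neg hA (rat hA hN 0 x (⟨_, haa⟩ : F₀) (f0_zero_left x))
        obtain ⟨-, g₂, hg₂, hge₂⟩ := Mix.neg hA (rat hA hN 0 x' (⟨_, hbb⟩ : F₀) (f0_zero_left x'))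
        by_contra hm
        refine hC (Or.inr ⟨x, x', f0_perp hA hx'x, hx'0, fun t e => ?_, a * b, hm, ?_,
          g * g₁ * g₂, L.mul_mem (L.mul_mem hg hg₁) hg₂, ?_⟩)
        · rcases eq_or_ne t 0 with rfl | ht
          · exact hx (by rw [e, zero_smul])
          · exact hx'n t⁻¹ (by rw [e, smul_smul, inv_mul_cancel₀ ht, one_smul])
        · rw [f_smul_left, g0 (f0_perp hA hx'x), mul_zero]
        · rw [Units.val_mul, Units.val_mul, hge, hge₁, hge₂, hu']
          simp only [mixMat, show rv F₀ (0 : ι → F₀) = 0 from funext fun _ => rfl, neg_zero,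
            E_zero_left, E_zero_right, add_zero, E_add_left, E_add_right, E_smul_left,
            E_smul_right, smul_smul, smul_add, one_mul, add_mul, mul_add, mul_one,
            smul_mul_assoc, mul_smul_comm, E_mul, hA (rv F₀ x), hA (rv F₀ x'), g0 hx'x,
            g0 (f0_perp hA hx'x), zero_smul, smul_zero]
          module
      rw [hu']
      simp only [f_add_left, f_smul_left, f_rv]
      rw [show ∀ p q r t : F, (a * p + b * q) * (a * r + b * t) =
        a * a * (p * r) + b * b * (q * t) + a * b * (p * t + q * r) from fun p q r t => by ring]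
      exact F₀.add_mem (F₀.add_mem (F₀.mul_mem haa (F₀.mul_mem (f0 F₀ J x y).2 (f0 F₀ J x y').2))
        (F₀.mul_mem hbb (F₀.mul_mem (f0 F₀ J x' y).2 (f0 F₀ J x' y').2)))
        (F₀.mul_mem hab (F₀.add_mem (F₀.mul_mem (f0 F₀ J x y).2 (f0 F₀ J x' y').2)
          (F₀.mul_mem (f0 F₀ J x' y).2 (f0 F₀ J x y').2)))
    -- a new rational perpendicular to `u`, `y` and `y'`
    obtain ⟨z₁, a1, a2, a3, a4⟩ := exists_perp hA hι x y y' 0 0
    have hz₁ : z₁ ≠ 0 := fun e => a4 0 0 (by simp [e])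
    obtain ⟨z₂, b1, b2, b3, b4⟩ := exists_perp hA hι x y y' z₁ z₁
    have hm1 := main x hx hxu z₁ y₀ a1 hy₀
    have hm2 := main x hx hxu z₂ y₀ b1 hy₀
    obtain ⟨x', hx', hx'u, hx'y, hx'y'⟩ : ∃ x' : ι → F₀, x' ≠ 0 ∧ f F₀ J u (rv F₀ x') = 0 ∧
        f0 F₀ J x' y = 0 ∧ f0 F₀ J x' y' = 0 := by
      by_cases hz : f F₀ J u (rv F₀ z₁) = 0
      · exact ⟨z₁, hz₁, hz, a2, a3⟩
      refine ⟨(⟨_, hm1⟩ : F₀) • z₂ - (⟨_, hm2⟩ : F₀) • z₁, fun e => ?_, ?_, ?_, ?_⟩
      · have hne : (⟨_, hm1⟩ : F₀) ≠ 0 := fun e' => mul_ne_zero hβ hz (congrArg Subtype.val e')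
        rw [sub_eq_zero] at e
        refine b4 ((⟨_, hm1⟩ : F₀)⁻¹ * ⟨_, hm2⟩) 0 ?_
        rw [zero_smul, add_zero, ← smul_smul, ← e, smul_smul, inv_mul_cancel₀ hne, one_smul]
      · rw [show ∀ (p q : ι → F₀), rv F₀ (p - q) = rv F₀ p - rv F₀ q from fun _ _ => rfl, rv_smul,
          rv_smul, sub_eq_add_neg, ← neg_smul, f_add_right, f_smul_right, f_smul_right]
        show β * _ * _ + -(β * _) * _ = 0
        ring
      · rw [f0_sub_left, f0_smul_left, f0_smul_left, b2, a2, mul_zero, mul_zero, sub_zero]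
      · rw [f0_sub_left, f0_smul_left, f0_smul_left, b3, a3, mul_zero, mul_zero, sub_zero]
    exact main x' hx' hx'u y' y (f0_perp hA hx'y') (f0_perp hA hx'y)
  have hcoord : ∀ l, f F₀ J u (rv F₀ (J⁻¹ *ᵥ Pi.single l 1)) = u l := by
    intro l
    rw [f, a_rv, Matrix.mulVec_mulVec, Matrix.mul_nonsing_inv _ (isUnit_iff_ne_zero.mpr hd),
      Matrix.one_mulVec, rv_single, dotProduct_single, mul_one]
  have := hγ (J⁻¹ *ᵥ Pi.single i 1) (J⁻¹ *ᵥ Pi.single k 1)
  rwa [hcoord, hcoord] at this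

include hA hd hN hLG in
theorem ratG_of (hι : Big ι F) (hC : ¬CaseA (F₀ := F₀) (J := J) L) {h : GL ι F}
    (hh : h ∈ L) {c ψ : ι → F₀} (hc : c ≠ 0) (hψ : ψ ≠ 0)
    (he : rv F₀ ψ ⬝ᵥ ((h : Matrix ι ι F) *ᵥ rv F₀ c) = 0) : RatG F₀ h := by
  set A := (h : Matrix ι ι F)
  have hnz : ∀ v : ι → F₀, v ≠ 0 → ∃ i, (A *ᵥ rv F₀ v) i ≠ 0 := by
    intro v hv
    refine Function.ne_iff.mp fun e => rv_ne_zero F₀ hv ?_
    exact Matrix.mulVec_injective_of_isUnit h.isUnit (e.trans (Matrix.mulVec_zero _).symm)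
  have prod : ∀ v x : ι → F₀, x ≠ 0 → f F₀ J (A *ᵥ rv F₀ v) (rv F₀ x) = 0 →
      ∀ i k, (A *ᵥ rv F₀ v) i * (A *ᵥ rv F₀ v) k ∈ F₀ := by
    intro v x hx hxv
    have h1 := rat hA hN 0 v 1 (f0_zero_left v)
    rw [show rv F₀ (0 : ι → F₀) = 0 from funext fun _ => rfl, OneMemClass.coe_one] at h1
    have h2 := Mix.conj hLG hh h1
    rw [Matrix.mulVec_zero] at h2
    exact products_rat hA hd hN hLG hι hC h2 hx hxv
  -- columns proportional to one rational column
  have step : ∀ c : ι → F₀, c ≠ 0 → (∀ i k, (A *ᵥ rv F₀ c) i * (A *ᵥ rv F₀ c) k ∈ F₀) →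
      ∀ v : ι → F₀, v ≠ 0 → f0 F₀ J c v = 0 → ∀ i k, (A *ᵥ rv F₀ c) i ≠ 0 →
      ((A *ᵥ rv F₀ c) i)⁻¹ * (A *ᵥ rv F₀ v) k ∈ F₀ ∧
        ∀ i k, (A *ᵥ rv F₀ v) i * (A *ᵥ rv F₀ v) k ∈ F₀ := by
    intro c hc hcp v hv hcv i k hi
    set u := A *ᵥ rv F₀ c with hudef
    let x₁ : ι → F₀ := fun l => ⟨u i * u l, hcp i l⟩
    have hx₁ : x₁ ≠ 0 := fun e => mul_ne_zero hi hi (congrArg Subtype.val (congrFun e i))
    have hx₁' : rv F₀ x₁ = u i • u := rfl
    have hperp : ∀ v : ι → F₀, f0 F₀ J c v = 0 →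
        f F₀ J (A *ᵥ rv F₀ v) (rv F₀ x₁) = 0 := by
      intro v hv
      rw [hx₁', f_smul_right, hudef, mem_G.mp (hLG hh), f_rv, f0_perp hA hv]
      simp
    have hvp := prod v x₁ hx₁ (hperp v hcv)
    refine ⟨?_, hvp⟩
    have hsp := prod (c + v) x₁ hx₁ (hperp _ (by
      rw [f0, Matrix.mulVec_add, dotProduct_add, ← f0, ← f0, f0_self hA, hcv, add_zero]))
    set b := A *ᵥ rv F₀ v with hbdef
    have hadd : A *ᵥ rv F₀ (c + v) = u + b := by rw [rv_add, Matrix.mulVec_add]
    rw [hadd] at hsp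
    have hcross : ∀ p q, u p * b q + u q * b p ∈ F₀ := by
      intro p q
      have h3 := F₀.sub_mem (F₀.sub_mem (hsp p q) (hcp p q)) (hvp p q)
      rw [Pi.add_apply, Pi.add_apply] at h3
      convert h3 using 1
      ring
    obtain ⟨j, hj⟩ := hnz v hv
    change b j ≠ 0 at hj
    by_cases hR : ∀ p q, u p * b q + u q * b p = 0
    · have hb : b = (-(b i / u i)) • u := by
        funext q
        rw [Pi.smul_apply, smul_eq_mul]
        field_simp
        linear_combination hR i q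
      set μ := -(b i / u i)
      have hμ : rv F₀ v = μ • rv F₀ c := by
        refine Matrix.mulVec_injective_of_isUnit h.isUnit ?_
        show A *ᵥ _ = A *ᵥ _
        rw [Matrix.mulVec_smul]
        exact hb
      obtain ⟨l, hl⟩ := Function.ne_iff.mp hc
      have hμm : μ ∈ F₀ := by
        have h4 := F₀.div_mem (v l).2 (c l).2
        have h5 := congrFun hμ l
        simp only [rv, Pi.smul_apply, smul_eq_mul] at h5
        rwa [h5, mul_div_cancel_right₀ _ (fun e => hl (Subtype.ext e))] at h4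
      have h6 := F₀.mul_mem hμm (F₀.div_mem (hcp i k) (hcp i i))
      rw [hb, Pi.smul_apply, smul_eq_mul]
      convert h6 using 1
      field_simp
    · push Not at hR
      obtain ⟨p, q, hpq⟩ := hR
      -- the cross term shows `u i * b j ∈ F₀`
      have hαb : u i * b j ∈ F₀ := by
        have hR2 : (u i * u p) * (b q * b j) + (u i * u q) * (b p * b j) ∈ F₀ :=
          F₀.add_mem (F₀.mul_mem (hcp i p) (hvp q j)) (F₀.mul_mem (hcp i q) (hvp p j))
        have h7 := F₀.div_mem hR2 (hcross p q)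
        convert h7 using 1
        field_simp
      have h8 := F₀.div_mem (hvp k j) hαb
      convert h8 using 1
      field_simp
  have hcp : ∀ i k, (A *ᵥ rv F₀ c) i * (A *ᵥ rv F₀ c) k ∈ F₀ := by
    obtain ⟨x, hx⟩ : ∃ x : ι → F₀, J *ᵥ x = ψ := ⟨J⁻¹ *ᵥ ψ, by
      rw [Matrix.mulVec_mulVec, Matrix.mul_nonsing_inv _ (isUnit_iff_ne_zero.mpr hd),
        Matrix.one_mulVec]⟩
    refine prod c x (fun e => hψ (by rw [← hx, e, Matrix.mulVec_zero])) ?_
    rw [f, a_rv, hx, dotProduct_comm]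
    exact he
  obtain ⟨i, hi⟩ := hnz c hc
  refine ⟨((A *ᵥ rv F₀ c) i)⁻¹, inv_ne_zero hi, fun k l => ?_⟩
  let v : ι → F₀ := Pi.single l 1
  have hv : v ≠ 0 := fun e => one_ne_zero (α := F₀) (by simpa [v] using congrFun e l)
  have hkl : A k l = (A *ᵥ rv F₀ v) k := by rw [rv_single, Matrix.mulVec_single_one]; rfl
  show _ * A k l ∈ F₀
  rw [hkl]
  obtain ⟨v₃, g1, g2, g3, -⟩ := exists_perp2 hA hι.four c v 0 0
  have hv₃ : v₃ ≠ 0 := fun e => g3 0 (by simp [e])
  obtain ⟨m, hm⟩ := hnz v₃ hv₃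
  obtain ⟨e1, hp3⟩ := step c hc hcp v₃ hv₃ (f0_perp hA g1) i m hi
  obtain ⟨e2, -⟩ := step v₃ hv₃ hp3 v hv g2 m k hm
  convert F₀.mul_mem e1 e2 using 1
  field_simp

include hA hd hN hLG in
/-- The centre of a long element of `L` has a rational perpendicular vector. -/
theorem exists_kill [Finite F] (hι : Big ι F) (hC : ¬CaseA (F₀ := F₀) (J := J) L)
    {u : ι → F} (hu : M[L, 0, u, 1]) : ∃ p : ι → F₀, p ≠ 0 ∧ f F₀ J u (rv F₀ p) = 0 := by
  have hne : Nonempty ι := Fintype.card_pos_iff.mp (by have := hι.four; omega)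
  obtain ⟨i₀⟩ := hne
  let e : ι → F₀ := Pi.single i₀ 1
  have he : e ≠ 0 := fun h => one_ne_zero (α := F₀) (by simpa [e] using congrFun h i₀)
  obtain ⟨e', hee'⟩ := exists_f0_one hd he
  obtain ⟨d, d1, d2, hd0, -⟩ := exists_perp2 hA hι.four e e' 0 0
  have d3 : ∀ s t : F₀, d ≠ s • e + t • e' := fun s t h => hd0 0 (by
    have u1 := d1
    have u2 := d2
    rw [h, f0_add_left, f0_smul_left, f0_smul_left] at u1 u2
    rw [f0_self hA, f0_skew hA e' e, hee', mul_zero, mul_neg, mul_one, zero_add, neg_eq_zero] at u1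
    rw [f0_self hA, hee', mul_zero, mul_one, add_zero] at u2
    rw [h, u1, u2, zero_smul, zero_smul, add_zero, smul_zero])
  have hdn : d ≠ 0 := fun h => d3 0 0 (by simp [h])
  obtain ⟨z, z1, z2⟩ := exists_f0_pair hd (x := d) (y := e) fun t h => d3 t 0 (by simp [h])
  have r0 : ∀ {x y : ι → F₀}, f0 F₀ J x y = 0 → f F₀ J (rv F₀ x) (rv F₀ y) = 0 :=
    fun h => by rw [f_rv, h]; rfl
  have r1 : ∀ {x y : ι → F₀}, f0 F₀ J x y = 1 → f F₀ J (rv F₀ x) (rv F₀ y) = 1 :=
    fun h => by rw [f_rv, h]; rfl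
  have g1 := r1 hee'
  have g1' : f F₀ J (rv F₀ e') (rv F₀ e) = -1 := by rw [f_skew hA, g1]
  have g3 := r0 d1
  have g3' := r0 (f0_perp hA d1)
  have g4 := r0 d2
  have g4' := r0 (f0_perp hA d2)
  have g5 := r0 z1
  have g6 := r1 z2
  set α := f F₀ J (rv F₀ e) u with hα
  by_cases hα0 : α = 0
  · exact ⟨e, he, by rw [f_skew hA, ← hα, hα0, neg_zero]⟩
  -- it is enough to find a suitable rational involution
  have main : ∀ j ∈ L, f F₀ J ((j : Matrix ι ι F) *ᵥ u) u = 0 →
      f F₀ J (rv F₀ e) ((j : Matrix ι ι F) *ᵥ u) = -α →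
      f F₀ J ((j : Matrix ι ι F) *ᵥ u) (rv F₀ d) = f F₀ J u (rv F₀ d) →
      (∀ g : GL ι F, (∀ x, (g : Matrix ι ι F) *ᵥ x = x + f F₀ J x u • u +
          f F₀ J x ((j : Matrix ι ι F) *ᵥ u) • ((j : Matrix ι ι F) *ᵥ u)) → g ∈ G F₀ J →
        ∀ c : F, c ≠ 0 → (∀ a b, c * (g : Matrix ι ι F) a b ∈ F₀) → c ∈ F₀) →
      (∃ z : ι → F₀, f F₀ J ((j : Matrix ι ι F) *ᵥ u) (rv F₀ z) ≠ f F₀ J u (rv F₀ z)) →
      ∃ p : ι → F₀, p ≠ 0 ∧ f F₀ J u (rv F₀ p) = 0 := by
    intro j hj hju hej hjd hsc ⟨w, hw⟩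
    set v := (j : Matrix ι ι F) *ᵥ u with hv
    obtain ⟨-, t, ht, hte⟩ := hu
    obtain ⟨-, t', ht', hte'⟩ := Mix.conj hLG hj (p := 0) (q := u) (l := (1 : F))
      ⟨f_zero_left _, t, ht, hte⟩
    rw [Matrix.mulVec_zero, ← hv] at hte'
    have hy : t * t' ∈ L := L.mul_mem ht ht'
    have hyv : ∀ x, ((t * t' : GL ι F) : Matrix ι ι F) *ᵥ x =
        x + f F₀ J x u • u + f F₀ J x v • v := fun x => by
      rw [Units.val_mul, ← Matrix.mulVec_mulVec, hte, hte', mix_mulVec, mix_mulVec]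
      simp only [smul_zero, zero_add, one_mul, f_add_left, f_smul_left, hju, mul_zero, add_zero,
        show ∀ x, f F₀ J x 0 = 0 from fun x => by rw [f_skew hA, f_zero_left, neg_zero], zero_smul]
      abel
    have hψ : J *ᵥ d ≠ 0 := fun h => hdn (Matrix.mulVec_injective_of_isUnit
      ((Matrix.isUnit_iff_isUnit_det J).mpr (isUnit_iff_ne_zero.mpr hd))
      (h.trans (Matrix.mulVec_zero J).symm))
    have hker : rv F₀ (J *ᵥ d) ⬝ᵥ (((t * t' : GL ι F) : Matrix ι ι F) *ᵥ rv F₀ e) = 0 := by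
      rw [← a_rv, dotProduct_comm]
      show f F₀ J _ (rv F₀ d) = 0
      rw [hyv, hej, ← hα, f_add_left, f_add_left, f_smul_left, f_smul_left, g3', hjd]
      ring
    obtain ⟨c, hc, hcr⟩ := ratG_of hA hd hN hLG hι hC hy he hψ hker
    have hcm := hsc _ hyv (hLG hy) c hc hcr
    have hy1 : ∀ a b, ((t * t' : GL ι F) : Matrix ι ι F) a b ∈ F₀ := fun a b => by
      have h := F₀.mul_mem (F₀.inv_mem hcm) (hcr a b)
      rwa [← mul_assoc, inv_mul_cancel₀ hc, one_mul] at h
    have hp : ∀ i, (α • u + (-α) • v) i ∈ F₀ := fun i => by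
      have h : ((t * t' : GL ι F) : Matrix ι ι F) *ᵥ rv F₀ e - rv F₀ e = α • u + (-α) • v := by
        rw [hyv, hej, ← hα]; abel
      rw [← h, Pi.sub_apply]
      exact F₀.sub_mem (sum_mem fun b _ => F₀.mul_mem (hy1 i b) (e b).2) (e i).2
    refine ⟨fun i => ⟨_, hp i⟩, fun h0 => hw ?_, ?_⟩
    · have h : α • u + (-α) • v = 0 := funext fun i => congrArg Subtype.val (congrFun h0 i)
      have h' := congrArg (fun x => f F₀ J x (rv F₀ w)) h
      simp only [f_add_left, f_smul_left, f_zero_left] at h'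
      refine mul_left_cancel₀ hα0 ?_
      linear_combination -h'
    · show f F₀ J u (α • u + (-α) • v) = 0
      rw [f_add_right, f_smul_right, f_smul_right, hA, f_skew hA u v, hju]
      ring
  by_cases h2 : (2 : F) = 0
  · -- a short root element
    obtain ⟨hj0, j, hj, hje⟩ := rat hA hN d e 0 (f0_perp hA (f0_perp hA d1))
    have hjv : (j : Matrix ι ι F) *ᵥ u =
        u + (f F₀ J u (rv F₀ e) • rv F₀ d + f F₀ J u (rv F₀ d) • rv F₀ e) := by
      rw [hje, mix_mulVec, ZeroMemClass.coe_zero, zero_mul, zero_smul, add_zero]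
    refine main j hj ?_ ?_ ?_ (fun g hg hgG c hc hcr => ?_) ⟨z, ?_⟩
    · rw [hjv]
      simp only [f_add_left, f_smul_left, hA u, f_skew hA (rv F₀ d) u, f_skew hA (rv F₀ e) u]
      linear_combination -(f F₀ J u (rv F₀ e) * f F₀ J u (rv F₀ d)) * h2
    · rw [hjv]
      simp only [f_add_right, f_smul_right, g3', hA (rv F₀ e), ← hα]
      linear_combination α * h2
    · rw [hjv]
      simp only [f_add_left, f_smul_left, g3', hA (rv F₀ d)]
      ring
    · -- squares
      set v := (j : Matrix ι ι F) *ᵥ u with hv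
      have hvu : f F₀ J v u = 0 := by
        rw [hjv]
        simp only [f_add_left, f_smul_left, hA u, f_skew hA (rv F₀ d) u, f_skew hA (rv F₀ e) u]
        linear_combination -(f F₀ J u (rv F₀ e) * f F₀ J u (rv F₀ d)) * h2
      have hsq : (g : Matrix ι ι F) * (g : Matrix ι ι F) = 1 := Matrix.ext_iff_mulVec.mpr fun x => by
        rw [← Matrix.mulVec_mulVec, hg, hg, Matrix.one_mulVec]
        simp only [f_add_left, f_smul_left, hA u, hA v, f_skew hA u v, hvu, neg_zero, mul_zero,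
          add_zero]
        match_scalars
        · ring
        · linear_combination f F₀ J x u * h2
        · linear_combination f F₀ J x v * h2
      have hcc : c * c ∈ F₀ := by
        have h1 : ∑ b, c * (g : Matrix ι ι F) i₀ b * (c * (g : Matrix ι ι F) b i₀) = c * c := by
          have := congrFun (congrFun hsq i₀) i₀
          rw [Matrix.mul_apply, Matrix.one_apply_eq] at this
          rw [← mul_one (c * c), ← this, Finset.mul_sum]
          exact Finset.sum_congr rfl fun b _ => by ring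
        rw [← h1]
        exact sum_mem fun b _ => F₀.mul_mem (hcr i₀ b) (hcr b i₀)
      have hinj : Function.Injective (fun x : F₀ => x * x) := fun a b hab => by
        have h' : (a : F) * a = b * b := congrArg Subtype.val hab
        have h : ((a : F) - b) * ((a : F) - b) = 0 := by
          linear_combination h' + ((b : F) * b - a * b) * h2
        exact Subtype.ext (sub_eq_zero.mp (mul_self_eq_zero.mp h))
      obtain ⟨s, hs⟩ := Finite.injective_iff_surjective.mp hinj ⟨c * c, hcc⟩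
      have h' : (s : F) * s = c * c := congrArg Subtype.val hs
      have h : (c - s) * (c - s) = 0 := by linear_combination h' + (c * c - c * s) * h2
      rw [sub_eq_zero.mp (mul_self_eq_zero.mp h)]
      exact s.2
    · rw [hjv]
      simp only [f_add_left, f_smul_left, g5, g6, mul_one, mul_zero, add_zero]
      rw [f_skew hA u (rv F₀ e), ← hα]
      simpa using hα0
  · -- a reflection in a rational plane
    have h1r : ∀ a b, (1 : Matrix ι ι F) a b ∈ F₀ := fun a b => by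
      rw [Matrix.one_apply]
      split_ifs
      · exact F₀.one_mem
      · exact F₀.zero_mem
    have hEr : ∀ (x y : ι → F₀) a b, E F₀ J (rv F₀ x) (rv F₀ y) a b ∈ F₀ := fun x y a b => by
      rw [E, Matrix.vecMulVec_apply, a_rv]
      exact F₀.mul_mem (x a).2 ((J *ᵥ y) b).2
    let P : Matrix ι ι F := E F₀ J (rv F₀ e) (rv F₀ e') - E F₀ J (rv F₀ e') (rv F₀ e)
    have hPP : P * P = P := by
      simp [P, sub_mul, mul_sub, E_mul, g1, g1', hA (rv F₀ e), hA (rv F₀ e')]
    have inv2 : (1 - (2 : F) • P) * (1 - (2 : F) • P) = 1 := by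
      simp only [sub_mul, mul_sub, one_mul, mul_one, smul_mul_smul_comm, hPP]
      module
    let j : GL ι F := ⟨1 - (2 : F) • P, 1 - (2 : F) • P, inv2, inv2⟩
    have hjx : ∀ x, (j : Matrix ι ι F) *ᵥ x = x +
        ((-(2 * f F₀ J x (rv F₀ e'))) • rv F₀ e + (2 * f F₀ J x (rv F₀ e)) • rv F₀ e') := fun x => by
      show (1 - (2 : F) • P) *ᵥ x = _
      simp only [P, Matrix.sub_mulVec, Matrix.smul_mulVec, E_mulVec, Matrix.one_mulVec]
      module
    have h2r : (2 : F) ∈ F₀ := by rw [← one_add_one_eq_two]; exact F₀.add_mem F₀.one_mem F₀.one_mem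
    have hjG : j ∈ G F₀ J := mem_G.mpr fun x y => by
      rw [hjx, hjx]
      simp only [f_add_left, f_add_right,
        f_smul_left, f_smul_right, g1, g1', hA (rv F₀ e), hA (rv F₀ e'),
        f_skew hA (rv F₀ e) y, f_skew hA (rv F₀ e') y]
      ring
    have hjN : j ∈ base F₀ J := Subgroup.mem_inf.mpr ⟨(mem_subfieldSubgroup_one F₀ _).mpr
      ⟨1, one_ne_zero, fun a b => by
        rw [one_mul]
        exact F₀.sub_mem (h1r a b) (F₀.mul_mem h2r (F₀.sub_mem (hEr e e' a b) (hEr e' e a b)))⟩,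
      hjG⟩
    refine main j (hN hjN) ?_ ?_ ?_ (fun g hg hgG c hc hcr => ?_) ⟨e, ?_⟩
    · rw [hjx]
      simp only [f_add_left, f_smul_left, hA u,
        f_skew hA (rv F₀ e) u, f_skew hA (rv F₀ e') u]
      ring
    · rw [hjx]
      simp only [f_add_right, f_smul_right, g1,
        hA (rv F₀ e), hα, f_skew hA (rv F₀ e) u]
      ring
    · rw [hjx]
      simp only [f_add_left, f_smul_left, g3',
        g4']
      ring
    · have key : ∀ x y : ι → F₀, c * f F₀ J ((g : Matrix ι ι F) *ᵥ rv F₀ x) (rv F₀ y) ∈ F₀ := by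
        intro x y
        rw [f, a_rv, dotProduct, Finset.mul_sum]
        refine sum_mem fun i _ => ?_
        rw [← mul_assoc]
        refine F₀.mul_mem ?_ ((J *ᵥ y) i).2
        rw [Matrix.mulVec, dotProduct, Finset.mul_sum]
        refine sum_mem fun b _ => ?_
        rw [← mul_assoc]
        exact F₀.mul_mem (hcr i b) (x b).2
      have h := F₀.sub_mem (key e e') (key e' e)
      rw [hg, hg, hjx] at h
      simp only [f_add_left, f_add_right,
        f_smul_left, f_smul_right, g1, g1', hA (rv F₀ e), hA (rv F₀ e'),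
        f_skew hA (rv F₀ e) u, f_skew hA (rv F₀ e') u] at h
      have h' := F₀.mul_mem (F₀.inv_mem h2r) h
      convert h' using 1
      field_simp
      ring
    · rw [hjx]
      simp only [f_add_left, f_smul_left, g1',
        hA (rv F₀ e), f_skew hA u (rv F₀ e), ← hα]
      intro h
      exact mul_ne_zero h2 hα0 (by linear_combination h)

include hA hd in
theorem maximal [Finite F] {r : ℕ} (hr : r.Prime) (hcard : Nat.card F = Nat.card F₀ ^ r)
    (hι : Big ι F) : Cfsg.Geo.IsMaximalIn (G F₀ J) (base F₀ J) := by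
  refine ⟨lt_of_le_of_ne inf_le_right fun e => ?_, fun L hN hLG => ?_⟩
  · obtain ⟨x, hx⟩ : ∃ x : F, x ∉ F₀ := by
      by_contra hc
      push Not at hc
      have : Nat.card F₀ = Nat.card F := Nat.card_congr (Equiv.subtypeUnivEquiv hc)
      rw [this] at hcard
      exact hr.ne_one (Nat.pow_right_injective (Finite.one_lt_card (α := F)) (a₁ := 1) (a₂ := r)
        (by simpa using hcard)).symm
    have hne : Nonempty ι := Fintype.card_pos_iff.mp (by have := hι.four; omega)
    obtain ⟨i⟩ := hne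
    let v : ι → F₀ := Pi.single i 1
    have hv : J *ᵥ v ≠ 0 := fun h => one_ne_zero (α := F₀) (by
      have := Matrix.mulVec_injective_of_isUnit ((Matrix.isUnit_iff_isUnit_det J).mpr
        (isUnit_iff_ne_zero.mpr hd)) (h.trans (Matrix.mulVec_zero J).symm)
      simpa [v] using congrFun this i)
    obtain ⟨l, hl⟩ := Function.ne_iff.mp hv
    have hii : a F₀ J (rv F₀ v) i = 0 := by
      have := hA (rv F₀ v)
      rwa [f, rv_single, single_dotProduct, one_mul, ← rv_single F₀] at this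
    have hli : l ≠ i := fun h => hl (by
      rw [h]
      refine Subtype.ext ?_
      rw [a_rv] at hii
      exact hii)
    have hm : mixU hA 0 (rv F₀ v) x (f_zero_left _) ∈ base F₀ J := by
      rw [e]; exact mixU_mem_G hA _ _ _ _
    obtain ⟨c, hc, h⟩ := (mem_subfieldSubgroup_one F₀ _).mp hm.1
    have h1 := h i i
    have h2 := h i l
    have hmm : (mixU hA 0 (rv F₀ v) x (f_zero_left _) : Matrix ι ι F) =
        1 + x • Matrix.vecMulVec (rv F₀ v) (a F₀ J (rv F₀ v)) := by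
      rw [coe_mixU, mixMat, E_zero_left, E_zero_right, add_zero, add_zero]; rfl
    simp only [hmm, Matrix.add_apply, Matrix.smul_apply, smul_eq_mul, Matrix.vecMulVec_apply, hii,
      mul_zero, add_zero, Matrix.one_apply_eq, mul_one] at h1
    simp only [hmm, Matrix.add_apply, Matrix.smul_apply, smul_eq_mul, Matrix.vecMulVec_apply,
      Matrix.one_apply_ne (Ne.symm hli), zero_add, a_rv] at h2
    apply hx
    have h3 := F₀.mul_mem (F₀.inv_mem (F₀.mul_mem h1 ((J *ᵥ v) l).2)) h2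
    have hl' : ((J *ᵥ v) l : F) ≠ 0 := fun h => hl (Subtype.ext h)
    have hvi : rv F₀ v i = 1 := by simp [rv, v]
    rw [hvi, one_mul] at h3
    change (c * (↑((J *ᵥ v) l) : F))⁻¹ * (c * (x * (↑((J *ᵥ v) l) : F))) ∈ F₀ at h3
    convert h3 using 1
    field_simp
  · by_cases hC : CaseA (F₀ := F₀) (J := J) L
    · exact Or.inr (le_antisymm hLG (caseA_full hA hd hN hLG hr hcard hι hC))
    · refine Or.inl (le_antisymm (fun g hg => Subgroup.mem_inf.mpr ⟨?_, hLG hg⟩) hN)
      have hne : Nonempty ι := Fintype.card_pos_iff.mp (by have := hι.four; omega)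
      obtain ⟨i⟩ := hne
      let v : ι → F₀ := Pi.single i 1
      have hv : v ≠ 0 := fun h => one_ne_zero (α := F₀) (by simpa [v] using congrFun h i)
      have h1 := rat hA hN 0 v 1 (f0_zero_left v)
      rw [show rv F₀ (0 : ι → F₀) = 0 from funext fun _ => rfl, OneMemClass.coe_one] at h1
      have h2 := Mix.conj hLG hg h1
      rw [Matrix.mulVec_zero] at h2
      obtain ⟨p, hp, hp'⟩ := exists_kill hA hd hN hLG hι hC h2
      refine (mem_subfieldSubgroup_one F₀ g).mpr (ratG_of hA hd hN hLG hι hC hg hv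
        (ψ := J *ᵥ p) (fun h => hp (Matrix.mulVec_injective_of_isUnit
          ((Matrix.isUnit_iff_isUnit_det J).mpr (isUnit_iff_ne_zero.mpr hd))
          (h.trans (Matrix.mulVec_zero J).symm))) ?_)
      rw [← a_rv, dotProduct_comm]
      exact hp'

end Rational

/-- The maximality statement for `m ≥ 3`, and for `m = 2` in odd characteristic. -/
theorem main' {F : Type*} [Field F] [Fintype F] (m : ℕ) (hm : 3 ≤ m ∨ (m = 2 ∧ (2 : F) ≠ 0)) (F₀ : Subfield F) (r : ℕ) (hr : r.Prime) (hcard : Fintype.card F = Nat.card F₀ ^ r) (P : Matrix.GeneralLinearGroup (Fin m ⊕ Fin m) F) (ζ : F) (hζ : ζ ≠ 0) (hP : Cfsg.Geo.IsFormRationalStructure (Cfsg.sympForm m F) F₀ ζ P) : Cfsg.Geo.IsMaximalIn (Cfsg.spGL m F) (Cfsg.Geo.subfieldSubgroup F₀ P ⊓ Cfsg.spGL m F) := by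
  rw [Fintype.card_eq_nat_card] at hcard
  set M : Matrix (Fin m ⊕ Fin m) (Fin m ⊕ Fin m) F :=
    ζ • ((P : Matrix _ _ F)ᵀ * Matrix.J (Fin m) F * (P : Matrix _ _ F)) with hM
  have hMf : ∀ u v, u ⬝ᵥ (M *ᵥ v) = ζ * Cfsg.sympForm m F ((P : Matrix _ _ F) *ᵥ u)
      ((P : Matrix _ _ F) *ᵥ v) := by
    intro u v
    rw [hM, Matrix.smul_mulVec, dotProduct_smul, smul_eq_mul, Cfsg.sympForm,
      ← Matrix.mulVec_mulVec, ← Matrix.mulVec_mulVec, Matrix.dotProduct_mulVec,
      Matrix.vecMul_transpose]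
  have hent : ∀ i j, M i j ∈ F₀ := by
    intro i j
    have h := hP (Pi.single i 1) (Pi.single j 1)
      (fun k => by rw [Pi.single_apply]; split_ifs <;> simp [F₀.one_mem, F₀.zero_mem])
      (fun k => by rw [Pi.single_apply]; split_ifs <;> simp [F₀.one_mem, F₀.zero_mem])
    rwa [← hMf, single_dotProduct, one_mul, Matrix.mulVec_single_one] at h
  let J : Matrix (Fin m ⊕ Fin m) (Fin m ⊕ Fin m) F₀ := Matrix.of fun i j => ⟨M i j, hent i j⟩
  have hf : ∀ u v, f F₀ J u v = ζ * Cfsg.sympForm m F ((P : Matrix _ _ F) *ᵥ u)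
      ((P : Matrix _ _ F) *ᵥ v) := hMf
  have hA : Alt F₀ J := fun u => by
    rw [hf, ← Cfsg.Lib.Linear.Symp.spB_apply, Cfsg.Lib.Linear.Symp.spB_isAlt, mul_zero]
  have hd : J.det ≠ 0 := by
    intro h
    have h1 := congrArg F₀.subtype h
    rw [RingHom.map_det, map_zero] at h1
    change M.det = 0 at h1
    rw [hM, Matrix.det_smul, Matrix.det_mul, Matrix.det_mul, Matrix.det_transpose] at h1
    refine mul_ne_zero (pow_ne_zero _ hζ) (mul_ne_zero (mul_ne_zero
      (Matrix.GeneralLinearGroup.det_ne_zero P) ?_) (Matrix.GeneralLinearGroup.det_ne_zero P)) h1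
    exact (Matrix.isUnit_det_J (Fin m) F).ne_zero
  have hG : (G F₀ J).map (MulAut.conj P).toMonoidHom = Cfsg.spGL m F := by
    ext g
    rw [Subgroup.mem_map_equiv, mem_G]
    simp only [hf, MulAut.conj_symm_apply, Units.val_mul, ← Matrix.mulVec_mulVec]
    have hcan : ∀ v : Fin m ⊕ Fin m → F, (P : Matrix (Fin m ⊕ Fin m) (Fin m ⊕ Fin m) F) *ᵥ
        (((P⁻¹ : GL (Fin m ⊕ Fin m) F) : Matrix (Fin m ⊕ Fin m) (Fin m ⊕ Fin m) F) *ᵥ v) = v := fun v => by
      rw [Matrix.mulVec_mulVec, ← Units.val_mul, mul_inv_cancel, Units.val_one, Matrix.one_mulVec]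
    simp only [hcan]
    have hdef : g ∈ Cfsg.spGL m F ↔ ∀ x y : Fin m ⊕ Fin m → F, Cfsg.sympForm m F
        ((g : Matrix (Fin m ⊕ Fin m) (Fin m ⊕ Fin m) F) *ᵥ x)
        ((g : Matrix (Fin m ⊕ Fin m) (Fin m ⊕ Fin m) F) *ᵥ y) = Cfsg.sympForm m F x y := Iff.rfl
    rw [hdef]
    constructor
    · intro h u v
      have := h (((P⁻¹ : GL (Fin m ⊕ Fin m) F) : Matrix _ _ F) *ᵥ u)
        (((P⁻¹ : GL (Fin m ⊕ Fin m) F) : Matrix _ _ F) *ᵥ v)
      simp only [hcan] at this
      exact mul_left_cancel₀ hζ this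
    · intro h u v
      rw [h]
  have hsub : Cfsg.Geo.subfieldSubgroup F₀ P ⊓ Cfsg.spGL m F =
      (base F₀ J).map (MulAut.conj P).toMonoidHom := by
    rw [base, Subgroup.map_inf_eq _ _ _ (MulAut.conj P).injective, hG]
    congr 1
    rw [Cfsg.Geo.subfieldSubgroup, Cfsg.Geo.subfieldSubgroup]
    congr 1
    ext x
    simp
  have hmax := maximal (F₀ := F₀) (J := J) hA hd hr hcard
    (hm.imp (fun h => by rw [Fintype.card_sum, Fintype.card_fin]; omega)
      fun h => ⟨by rw [Fintype.card_sum, Fintype.card_fin, h.1], h.2⟩)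
  rw [hsub, ← hG]
  have hinj : Function.Injective (MulAut.conj P).toMonoidHom := (MulAut.conj P).injective
  have hsur : Function.Surjective (MulAut.conj P).toMonoidHom := (MulAut.conj P).surjective
  refine ⟨(Subgroup.map_lt_map_iff_of_injective hinj).mpr hmax.1, fun L h1 h2 => ?_⟩
  rcases hmax.2 (L.comap (MulAut.conj P).toMonoidHom) (Subgroup.map_le_iff_le_comap.mp h1)
      (by rw [← Subgroup.map_le_map_iff_of_injective hinj,
            Subgroup.map_comap_eq_self_of_surjective hsur]; exact h2) with e | e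
  · exact Or.inl (by rw [← e, Subgroup.map_comap_eq_self_of_surjective hsur])
  · exact Or.inr (by rw [← e, Subgroup.map_comap_eq_self_of_surjective hsur])

/-- The maximality statement for `m ≥ 3`. -/
theorem main {F : Type*} [Field F] [Fintype F] (m : ℕ) (hm : 3 ≤ m) (F₀ : Subfield F) (r : ℕ) (hr : r.Prime) (hcard : Fintype.card F = Nat.card F₀ ^ r) (P : Matrix.GeneralLinearGroup (Fin m ⊕ Fin m) F) (ζ : F) (hζ : ζ ≠ 0) (hP : Cfsg.Geo.IsFormRationalStructure (Cfsg.sympForm m F) F₀ ζ P) : Cfsg.Geo.IsMaximalIn (Cfsg.spGL m F) (Cfsg.Geo.subfieldSubgroup F₀ P ⊓ Cfsg.spGL m F) :=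
  main' m (Or.inl hm) F₀ r hr hcard P ζ hζ hP

/-- The maximality statement for `m ≥ 5`. -/
theorem isMaximal {F : Type*} [Field F] [Fintype F] (m : ℕ) (hm : 5 ≤ m) (F₀ : Subfield F) (r : ℕ) (hr : r.Prime) (hcard : Fintype.card F = Nat.card F₀ ^ r) (P : Matrix.GeneralLinearGroup (Fin m ⊕ Fin m) F) (ζ : F) (hζ : ζ ≠ 0) (hP : Cfsg.Geo.IsFormRationalStructure (Cfsg.sympForm m F) F₀ ζ P) : Cfsg.Geo.IsMaximalIn (Cfsg.spGL m F) (Cfsg.Geo.subfieldSubgroup F₀ P ⊓ Cfsg.spGL m F) :=
  main m (le_trans (by norm_num) hm) F₀ r hr hcard P ζ hζ hP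

end Cfsg.Lib.Linear.SpGeo.Subfield
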